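import Mathlib

/-! # Cocliques of the prime graph -/

set_option autoImplicit false
set_option linter.unusedVariables false
set_option linter.unusedSectionVars false

namespace CfsgLib.Rec

universe u v

open Subgroup

section Abstract

/-- The Frobenius action identity on a commutative group. -/
theorem frob_key {A : Type u} [Group A] (hcomm : ∀ a b : A, a * b = b * a) {Γ : Type v} [Group Γ] (act : Γ →* MulAut A)
    (F H : Subgroup Γ) [Finite F] [Finite H]
    (hHF : ∀ h ∈ H, ∀ f ∈ F, h * f * h⁻¹ ∈ F)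
    (hF1 : ∃ f ∈ F, f ≠ 1) (hH1 : ∃ h ∈ H, h ≠ 1)
    (hfixF : ∀ f ∈ F, f ≠ 1 → ∀ a : A, act f a = a → a = 1)
    (hfixH : ∀ h ∈ H, h ≠ 1 → ∀ f ∈ F, ∀ a : A, act (f * h * f⁻¹) a = a → a = 1)
    (hFH : ∀ h ∈ H, h ≠ 1 → ∀ f ∈ F, f * h = h * f → f = 1) (a : A) :
    a ^ Nat.card F = 1 := by
  classical
  letI : CommGroup A := { (inferInstance : Group A) with mul_comm := hcomm }
  letI : Fintype F := Fintype.ofFinite F
  letI : Fintype H := Fintype.ofFinite H
  -- the norm for F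
  have key1 : ∀ b : A, ∏ f : F, act (f : Γ) b = 1 := by
    intro b
    obtain ⟨f₀, hf₀, hf₀1⟩ := hF1
    apply hfixF f₀ hf₀ hf₀1
    rw [map_prod]
    refine Fintype.prod_equiv (Equiv.mulLeft (⟨f₀, hf₀⟩ : F)) _ _ fun f => ?_
    simp only [Equiv.coe_mulLeft, Subgroup.coe_mul, map_mul, MulAut.mul_apply]
  have key2 : ∀ (f : F) (b : A), ∏ h : H, act ((f : Γ) * (h : Γ) * (f : Γ)⁻¹) b = 1 := by
    intro f b
    obtain ⟨h₀, hh₀, hh₀1⟩ := hH1
    apply hfixH h₀ hh₀ hh₀1 f f.2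
    rw [map_prod]
    refine Fintype.prod_equiv (Equiv.mulLeft (⟨h₀, hh₀⟩ : H)) _ _ fun h => ?_
    simp only [Equiv.coe_mulLeft, Subgroup.coe_mul]
    rw [← MulAut.mul_apply, ← map_mul]
    congr 2
    group
  have key3 : ∀ h : H, (h : Γ) ≠ 1 → ∏ f : F, act ((f : Γ) * (h : Γ) * (f : Γ)⁻¹) a = 1 := by
    intro h hh
    let c : F → F := fun f => ⟨(f : Γ) * ((h : Γ) * (f : Γ)⁻¹ * (h : Γ)⁻¹), F.mul_mem f.2 (hHF h h.2 _ (F.inv_mem f.2))⟩
    have hc : Function.Injective c := by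
      intro f g hfg
      have h1 : (f : Γ) * ((h : Γ) * (f : Γ)⁻¹ * (h : Γ)⁻¹) = (g : Γ) * ((h : Γ) * (g : Γ)⁻¹ * (h : Γ)⁻¹) := congrArg Subtype.val hfg
      have h2 : ((g : Γ)⁻¹ * (f : Γ)) * (h : Γ) = (h : Γ) * ((g : Γ)⁻¹ * (f : Γ)) := by
        have h3 : (f : Γ) * (h : Γ) * (f : Γ)⁻¹ = (g : Γ) * (h : Γ) * (g : Γ)⁻¹ := by
          have := congrArg (· * (h : Γ)) h1
          simpa [mul_assoc] using this
        calc ((g : Γ)⁻¹ * (f : Γ)) * (h : Γ) = (g : Γ)⁻¹ * ((f : Γ) * (h : Γ) * (f : Γ)⁻¹) * (f : Γ) := by group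
          _ = (g : Γ)⁻¹ * ((g : Γ) * (h : Γ) * (g : Γ)⁻¹) * (f : Γ) := by rw [h3]
          _ = _ := by group
      have h4 := hFH h h.2 hh _ (F.mul_mem (F.inv_mem g.2) f.2) h2
      apply Subtype.ext
      have : (f : Γ) = (g : Γ) := by
        have h5 := congrArg ((g : Γ) * ·) h4
        simpa using h5
      exact this
    have hcb : Function.Bijective c := Finite.injective_iff_bijective.1 hc
    have h1 := key1 (act (h : Γ) a)
    rw [← h1]
    refine Fintype.prod_bijective c hcb _ _ fun f => ?_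
    rw [← MulAut.mul_apply, ← map_mul]
    congr 2
    show (f : Γ) * (h : Γ) * (f : Γ)⁻¹ = (f : Γ) * ((h : Γ) * (f : Γ)⁻¹ * (h : Γ)⁻¹) * (h : Γ)
    group
  have h1 : ∏ f : F, ∏ h : H, act ((f : Γ) * (h : Γ) * (f : Γ)⁻¹) a = 1 :=
    Finset.prod_eq_one fun f _ => key2 f a
  rw [Finset.prod_comm, Finset.prod_eq_single (1 : H)] at h1
  · have h2 : ∏ f : F, act ((f : Γ) * ((1 : H) : Γ) * (f : Γ)⁻¹) a = a ^ Nat.card F := by
      rw [Nat.card_eq_fintype_card, ← Finset.card_univ, ← Finset.prod_const]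
      refine Finset.prod_congr rfl fun f _ => ?_
      simp
    rw [← h2]
    exact h1
  · intro h _ hh
    exact key3 h (fun h' => hh (Subtype.ext h'))
  · intro h
    exact absurd (Finset.mem_univ _) h

end Abstract

variable {G : Type u} [Group G] [Finite G]

theorem exists_order_mul {a b : G} {p q i j : ℕ} (hp : p.Prime) (hq : q.Prime) (hne : p ≠ q) (hab : a * b = b * a)
    (ha : orderOf a = p ^ i) (hb : orderOf b = q ^ j) (ha1 : a ≠ 1) (hb1 : b ≠ 1) : ∃ y : G, orderOf y = p * q := by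
  have hi : i ≠ 0 := by
    rintro rfl
    exact ha1 (orderOf_eq_one_iff.1 (by simpa using ha))
  have hj : j ≠ 0 := by
    rintro rfl
    exact hb1 (orderOf_eq_one_iff.1 (by simpa using hb))
  have ho1 : orderOf (a ^ (p ^ (i - 1))) = p := by
    have hd : p ^ (i - 1) ∣ orderOf a := by
      rw [ha]
      exact pow_dvd_pow _ (by omega)
    rw [orderOf_pow_of_dvd (pow_ne_zero _ hp.ne_zero) hd, ha]
    have : p ^ i = p ^ (i - 1) * p := by
      rw [← pow_succ]
      congr 1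
      omega
    rw [this]
    exact Nat.mul_div_cancel_left _ (pow_pos hp.pos _)
  have ho2 : orderOf (b ^ (q ^ (j - 1))) = q := by
    have hd : q ^ (j - 1) ∣ orderOf b := by
      rw [hb]
      exact pow_dvd_pow _ (by omega)
    rw [orderOf_pow_of_dvd (pow_ne_zero _ hq.ne_zero) hd, hb]
    have : q ^ j = q ^ (j - 1) * q := by
      rw [← pow_succ]
      congr 1
      omega
    rw [this]
    exact Nat.mul_div_cancel_left _ (pow_pos hq.pos _)
  have hc : Commute (a ^ (p ^ (i - 1))) (b ^ (q ^ (j - 1))) := (show Commute a b from hab).pow_pow _ _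
  refine ⟨_, hc.orderOf_mul_eq_mul_orderOf_of_coprime ?_ |>.trans ?_⟩
  · rw [ho1, ho2]
    exact (Nat.coprime_primes hp hq).2 hne
  · rw [ho1, ho2]

/-- The element form of the obstruction. -/
theorem no_config {p q r : ℕ} (hp : p.Prime) (hq : q.Prime) (hr : r.Prime) (hpq : p ≠ q) (hpr : p ≠ r) (hqr : q ≠ r)
    (h1 : ¬ ∃ x : G, orderOf x = p * q) (h2 : ¬ ∃ x : G, orderOf x = p * r) (h3 : ¬ ∃ x : G, orderOf x = q * r)
    (V F : Subgroup G) (x : G) (hVp : IsPGroup p V) (hV : V ≠ ⊥) (hVab : ∀ a ∈ V, ∀ b ∈ V, a * b = b * a)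
    (hFq : IsPGroup q F) (hF : F ≠ ⊥) (hx : orderOf x = r)
    (hFV : F ≤ normalizer (V : Set G)) (hxV : x ∈ normalizer (V : Set G)) (hxF : x ∈ normalizer (F : Set G)) : False := by
  classical
  haveI := Fact.mk hp
  haveI := Fact.mk hq
  have hxorder : ∀ k : ℕ, x ^ k ≠ 1 → orderOf (x ^ k) = r := by
    intro k hk
    have h4 : orderOf (x ^ k) ∣ r := by
      rw [← hx]
      exact orderOf_pow_dvd k
    rcases (Nat.dvd_prime hr).1 h4 with h5 | h5
    · exact absurd (orderOf_eq_one_iff.1 h5) hk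
    · exact h5
  -- element facts
  have hVo : ∀ v ∈ V, ∃ k, orderOf v = p ^ k := by
    intro v hv
    obtain ⟨k, hk⟩ := IsPGroup.iff_orderOf.1 hVp ⟨v, hv⟩
    exact ⟨k, by rw [← hk, Subgroup.orderOf_mk]⟩
  have hFo : ∀ f ∈ F, ∃ k, orderOf f = q ^ k := by
    intro v hv
    obtain ⟨k, hk⟩ := IsPGroup.iff_orderOf.1 hFq ⟨v, hv⟩
    exact ⟨k, by rw [← hk, Subgroup.orderOf_mk]⟩
  let Γ := normalizer (V : Set G)
  let act : Γ →* MulAut V := V.normalizerMonoidHom
  have hactco : ∀ (g : Γ) (v : V), ((act g v : V) : G) = (g : G) * v * (g : G)⁻¹ := fun g v => rfl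
  let F' : Subgroup Γ := F.subgroupOf Γ
  let H' : Subgroup Γ := (zpowers x).subgroupOf Γ
  have hzp : zpowers x ≤ Γ := by
    rw [zpowers_le]
    exact hxV
  have hcardF : Nat.card F' = Nat.card F := by
    exact Nat.card_congr (Subgroup.subgroupOfEquivOfLe hFV).toEquiv
  have hkey := frob_key (A := V) (fun a b => Subtype.ext (hVab a a.2 b b.2)) act F' H' ?_ ?_ ?_ ?_ ?_ ?_
  · apply hV
    rw [eq_bot_iff]
    intro v hv
    rw [Subgroup.mem_bot]
    have h4 := hkey ⟨v, hv⟩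
    rw [hcardF] at h4
    have h5 : v ^ Nat.card F = 1 := by
      have := congrArg Subtype.val h4
      simpa using this
    obtain ⟨k, hk⟩ := hVo v hv
    obtain ⟨m, hm⟩ := IsPGroup.iff_card.1 hFq
    rw [hm] at h5
    have h6 : orderOf v ∣ q ^ m := orderOf_dvd_of_pow_eq_one h5
    rw [hk] at h6
    have h7 : k = 0 := by
      by_contra hk0
      have h8 : p ∣ q ^ m := dvd_trans (dvd_pow_self p hk0) h6
      exact hpq ((Nat.prime_dvd_prime_iff_eq hp hq).1 (hp.dvd_of_dvd_pow h8))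
    rw [h7, pow_zero] at hk
    exact orderOf_eq_one_iff.1 hk
  · -- H normalizes F
    rintro ⟨h, hh⟩ hh' ⟨f, hf⟩ hf'
    have h4 : h ∈ zpowers x := hh'
    have h5 : h ∈ normalizer (F : Set G) := (zpowers_le.2 hxF) h4
    have h6 : f ∈ F := hf'
    show h * f * h⁻¹ ∈ F
    exact (Subgroup.mem_normalizer_iff.1 h5 f).1 h6
  · -- F nontrivial
    obtain ⟨f, hf, hf1⟩ := (Subgroup.ne_bot_iff_exists_ne_one.1 hF) |>.imp (fun a h => h) |> fun ⟨a, ha⟩ => (⟨(a : G), a.2, fun h => ha (Subtype.ext h)⟩ : ∃ f ∈ F, f ≠ 1)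
    exact ⟨⟨f, hFV hf⟩, hf, fun h => hf1 (congrArg Subtype.val h)⟩
  · -- H nontrivial
    have hx1 : x ≠ 1 := by
      rintro rfl
      rw [orderOf_one] at hx
      exact hr.one_lt.ne hx
    exact ⟨⟨x, hxV⟩, mem_zpowers x, fun h => hx1 (congrArg Subtype.val h)⟩
  · -- fixed points of F
    rintro ⟨f, hfΓ⟩ hf hf1 a ha
    by_contra ha1
    have hf' : f ∈ F := hf
    obtain ⟨k, hk⟩ := hFo f hf'
    obtain ⟨k', hk'⟩ := hVo a a.2
    have hcomm : f * a = a * f := by
      have h4 := congrArg Subtype.val ha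
      rw [hactco] at h4
      have h5 : f * (a : G) * f⁻¹ = a := h4
      exact mul_inv_eq_iff_eq_mul.1 h5
    exact h1 (exists_order_mul hq hp hpq.symm hcomm hk hk' (fun h => hf1 (Subtype.ext h)) (fun h => ha1 (Subtype.ext h)) |>.imp fun y hy => by rw [hy, mul_comm])
  · -- fixed points of conjugates of H
    rintro ⟨h, hhΓ⟩ hh hh1 ⟨f, hfΓ⟩ hf a ha
    by_contra ha1
    have hh' : h ∈ zpowers x := hh
    obtain ⟨z, rfl⟩ := Subgroup.mem_zpowers_iff.1 hh'
    have hh2 : x ^ z ≠ 1 := fun h' => hh1 (Subtype.ext h')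
    -- the conjugate has order r
    have hord : orderOf (f * x ^ z * f⁻¹) = r := by
      have h4 : orderOf (x ^ z) = r := by
        have h5 : orderOf (x ^ z) ∣ r := by
          rw [← hx]
          exact orderOf_dvd_of_pow_eq_one (by rw [← zpow_natCast, ← zpow_mul, mul_comm, zpow_mul, zpow_natCast, pow_orderOf_eq_one, one_zpow])
        rcases (Nat.dvd_prime hr).1 h5 with h6 | h6
        · exact absurd (orderOf_eq_one_iff.1 h6) hh2
        · exact h6
      rw [← h4]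
      exact MulEquiv.orderOf_eq (MulAut.conj f) _
    obtain ⟨k', hk'⟩ := hVo a a.2
    have hcomm : (f * x ^ z * f⁻¹) * a = a * (f * x ^ z * f⁻¹) := by
      have h4 := congrArg Subtype.val ha
      rw [hactco] at h4
      have h5 : (f * x ^ z * f⁻¹) * (a : G) * (f * x ^ z * f⁻¹)⁻¹ = a := h4
      exact mul_inv_eq_iff_eq_mul.1 h5
    have hne : f * x ^ z * f⁻¹ ≠ 1 := by
      intro h
      apply hh2
      have h6 : x ^ z = f⁻¹ * (f * x ^ z * f⁻¹) * f := by group
      rw [h6, h]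
      group
    exact h2 (exists_order_mul hp hr hpr hcomm.symm hk' (by rw [hord, pow_one]) (fun h => ha1 (Subtype.ext h)) hne)
  · -- fixed points of H on F
    rintro ⟨h, hhΓ⟩ hh hh1 ⟨f, hfΓ⟩ hf hc
    by_contra hf1
    have hh' : h ∈ zpowers x := hh
    obtain ⟨z, rfl⟩ := Subgroup.mem_zpowers_iff.1 hh'
    have hh2 : x ^ z ≠ 1 := fun h' => hh1 (Subtype.ext h')
    have h4 : orderOf (x ^ z) = r := by
      have h5 : orderOf (x ^ z) ∣ r := by
        rw [← hx]
        exact orderOf_dvd_of_pow_eq_one (by rw [← zpow_natCast, ← zpow_mul, mul_comm, zpow_mul, zpow_natCast, pow_orderOf_eq_one, one_zpow])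
      rcases (Nat.dvd_prime hr).1 h5 with h6 | h6
      · exact absurd (orderOf_eq_one_iff.1 h6) hh2
      · exact h6
    have hf' : f ∈ F := hf
    obtain ⟨k, hk⟩ := hFo f hf'
    have hcomm : f * x ^ z = x ^ z * f := congrArg Subtype.val hc
    exact h3 (exists_order_mul hq hr hqr hcomm hk (by rw [h4, pow_one]) (fun h => hf1 (Subtype.ext h)) hh2)

end CfsgLib.Rec
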