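import Cfsg.Agent.Lib.Rec.Coclique

/-! # Normal chains and the prime graph -/

set_option autoImplicit false
set_option linter.unusedVariables false
set_option linter.unusedSectionVars false

namespace CfsgLib.Rec

universe u

open Subgroup

variable {G : Type u} [Group G] [Finite G]

theorem mem_of_pow_mem_coprime' {H : Subgroup G} {a : G} {m n : ℕ} (hc : Nat.Coprime m n) (ha : a ^ m ∈ H) (hb : a ^ n ∈ H) : a ∈ H := by
  have h := Nat.gcd_eq_gcd_ab m n
  rw [hc.gcd_eq_one] at h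
  have h2 : a = (a ^ m) ^ (Nat.gcdA m n) * (a ^ n) ^ (Nat.gcdB m n) := by
    rw [← zpow_natCast, ← zpow_natCast, ← zpow_mul, ← zpow_mul, ← zpow_add, ← h]
    simp
  rw [h2]
  exact H.mul_mem (H.zpow_mem ha _) (H.zpow_mem hb _)

theorem exists_prime_part {H : Subgroup G} {a : G} {q : ℕ} (hq : q.Prime) (ha : a ∉ H) (ha' : a ^ q ∈ H) :
    ∃ k e : ℕ, a ^ k ∉ H ∧ orderOf (a ^ k) = q ^ e := by
  have h0 : orderOf a ≠ 0 := (orderOf_pos a).ne'
  obtain ⟨e, w, hw, he⟩ := Nat.exists_eq_pow_mul_and_not_dvd h0 q hq.ne_one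
  have hw0 : w ≠ 0 := by
    rintro rfl
    simp at hw
  refine ⟨w, e, ?_, ?_⟩
  · intro h
    exact ha (mem_of_pow_mem_coprime' ((Nat.Prime.coprime_iff_not_dvd hq).2 hw) ha' h)
  · rw [orderOf_pow_of_dvd hw0 (by rw [he]; exact dvd_mul_left _ _), he]
    exact Nat.mul_div_cancel _ (Nat.pos_of_ne_zero hw0)

theorem dvd_orderOf_of_pow_mem {H : Subgroup G} {a : G} {r : ℕ} (hr : r.Prime) (ha : a ∉ H) (ha' : a ^ r ∈ H) : r ∣ orderOf a := by
  by_contra h
  apply ha
  refine mem_of_pow_mem_coprime' ((Nat.Prime.coprime_iff_not_dvd hr).2 h) ha' ?_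
  rw [pow_orderOf_eq_one]
  exact H.one_mem

theorem normalizer_map_subtype (A : Subgroup G) (T : Subgroup A) {y : A} (hy : y ∈ normalizer (T : Set A)) :
    (y : G) ∈ normalizer ((T.map A.subtype : Subgroup G) : Set G) := by
  have hside : ∀ y : A, y ∈ normalizer (T : Set A) → ∀ h ∈ T.map A.subtype, (y : G) * h * (y : G)⁻¹ ∈ T.map A.subtype := by
    rintro y hy _ ⟨t, ht, rfl⟩
    exact ⟨y * t * y⁻¹, (Subgroup.mem_normalizer_iff.1 hy t).1 ht, rfl⟩
  rw [Subgroup.mem_normalizer_iff]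
  intro h
  refine ⟨hside y hy h, fun h' => ?_⟩
  have := hside y⁻¹ (inv_mem hy) _ h'
  simpa [mul_assoc] using this

theorem normalizer_le_center (P : Subgroup G) :
    normalizer (P : Set G) ≤ normalizer ((centralizer (P : Set G) ⊓ P : Subgroup G) : Set G) := by
  have hside : ∀ g ∈ normalizer (P : Set G), ∀ h ∈ (centralizer (P : Set G) ⊓ P : Subgroup G), g * h * g⁻¹ ∈ (centralizer (P : Set G) ⊓ P : Subgroup G) := by
    rintro g hg h ⟨h1, h2⟩
    refine ⟨?_, (Subgroup.mem_normalizer_iff.1 hg h).1 h2⟩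
    show g * h * g⁻¹ ∈ centralizer (P : Set G)
    rw [Subgroup.mem_centralizer_iff]
    intro y hy
    have hy' : g⁻¹ * y * g ∈ P := by
      have := (Subgroup.mem_normalizer_iff.1 (inv_mem hg) y).1 hy
      simpa using this
    have h3 := (Subgroup.mem_centralizer_iff.1 h1) _ hy'
    calc y * (g * h * g⁻¹) = g * ((g⁻¹ * y * g) * h) * g⁻¹ := by group
      _ = g * (h * (g⁻¹ * y * g)) * g⁻¹ := by rw [h3]
      _ = _ := by group
  intro g hg
  rw [Subgroup.mem_normalizer_iff]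
  intro h
  refine ⟨hside g hg h, fun h' => ?_⟩
  have := hside g⁻¹ (inv_mem hg) _ h'
  simpa [mul_assoc] using this

/-- The core of the normal chain statement. -/
theorem chain_false {K M : Subgroup G} [K.Normal] [M.Normal] (hKM : K ≤ M)
    {p q r : ℕ} (hp : p.Prime) (hq : q.Prime) (hr : r.Prime) (hpq : p ≠ q) (hpr : p ≠ r) (hqr : q ≠ r)
    (h1 : ¬ ∃ x : G, orderOf x = p * q) (h2 : ¬ ∃ x : G, orderOf x = p * r) (h3 : ¬ ∃ x : G, orderOf x = q * r)
    (hpK : p ∣ Nat.card K) (hm : ∃ m ∈ M, m ∉ K ∧ m ^ q ∈ K) (hg : ∃ g : G, g ∉ M ∧ g ^ r ∈ M) : False := by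
  classical
  haveI := Fact.mk hp
  haveI := Fact.mk hq
  haveI := Fact.mk hr
  -- a Sylow p-subgroup of K
  obtain ⟨u, hu⟩ := exists_prime_orderOf_dvd_card' (G := K) p hpK
  have hupg : IsPGroup p (zpowers u) := by
    apply IsPGroup.of_card (n := 1)
    rw [Nat.card_zpowers, hu, pow_one]
  obtain ⟨P, hP⟩ := hupg.exists_le_sylow
  set P' : Subgroup G := (P : Subgroup K).map K.subtype with hP'
  have hsup : normalizer (P' : Set G) ⊔ K = ⊤ := Sylow.normalizer_sup_eq_top P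
  set A : Subgroup G := normalizer (P' : Set G) with hA
  have hdec : ∀ g : G, ∃ a ∈ A, ∃ k ∈ K, a * k = g := by
    intro g
    have h4 : g ∈ ((A ⊔ K : Subgroup G) : Set G) := by
      rw [hsup]
      trivial
    rw [mul_normal, Set.mem_mul] at h4
    exact h4
  have hP'p : IsPGroup p P' := IsPGroup.map P.2 K.subtype
  have hu1 : (u : G) ≠ 1 := by
    intro h
    have h5 : u = 1 := Subtype.ext h
    rw [h5, orderOf_one] at hu
    exact hp.one_lt.ne hu
  have huP : (u : G) ∈ P' := ⟨u, hP (mem_zpowers u), rfl⟩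
  -- the abelian group V
  set V : Subgroup G := centralizer (P' : Set G) ⊓ P' with hV
  have hVab : ∀ a ∈ V, ∀ b ∈ V, a * b = b * a := by
    intro a ha b hb
    exact ((Subgroup.mem_centralizer_iff.1 ha.1) b hb.2).symm
  have hVp : IsPGroup p V := hP'p.to_le inf_le_right
  have hVne : V ≠ ⊥ := by
    haveI : Nontrivial P' := by
      refine ⟨⟨⟨(u : G), huP⟩, 1, fun h => hu1 (congrArg Subtype.val h)⟩⟩
    haveI := hP'p.center_nontrivial
    obtain ⟨⟨c, hc⟩, hc1⟩ := exists_ne (1 : Subgroup.center P')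
    intro hbot
    apply hc1
    apply Subtype.ext
    apply Subtype.ext
    have hcV : (c : G) ∈ V := by
      refine ⟨?_, c.2⟩
      show (c : G) ∈ centralizer (P' : Set G)
      rw [Subgroup.mem_centralizer_iff]
      intro y hy
      have h5 := (Subgroup.mem_center_iff.1 hc) ⟨y, hy⟩
      exact congrArg Subtype.val h5
    rw [hbot, Subgroup.mem_bot] at hcV
    exact hcV
  have hAV : A ≤ normalizer (V : Set G) := normalizer_le_center P'
  -- Step 2: a q-element in A ∩ M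
  obtain ⟨m, hmM, hmK, hmq⟩ := hm
  obtain ⟨a, haA, k, hk, rfl⟩ := hdec m
  have haM : a ∈ M := by
    have : a = a * k * k⁻¹ := by group
    rw [this]
    exact M.mul_mem hmM (M.inv_mem (hKM hk))
  have haK : a ∉ K := fun h => hmK (K.mul_mem h hk)
  have haq : a ^ q ∈ K := by
    have h4 : (QuotientGroup.mk a : G ⧸ K) = QuotientGroup.mk (a * k) := by
      rw [QuotientGroup.mk_mul, (QuotientGroup.eq_one_iff k).2 hk, mul_one]
    rw [← QuotientGroup.eq_one_iff, QuotientGroup.mk_pow, h4, ← QuotientGroup.mk_pow, QuotientGroup.eq_one_iff]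
    exact hmq
  obtain ⟨k₁, e, ha1K, ha1o⟩ := exists_prime_part hq haK haq
  set a₁ := a ^ k₁ with ha₁
  have ha1A : a₁ ∈ A := A.pow_mem haA _
  have ha1M : a₁ ∈ M := M.pow_mem haM _
  have ha11 : a₁ ≠ 1 := by
    intro h
    rw [h] at ha1K
    exact ha1K K.one_mem
  -- in the group A
  let N₁ : Subgroup A := M.subgroupOf A
  haveI : N₁.Normal := inferInstance
  let b : N₁ := ⟨⟨a₁, ha1A⟩, ha1M⟩
  have hbo : orderOf b = q ^ e := by
    rw [← ha1o]
    have : orderOf b = orderOf (b : A) := (Subgroup.orderOf_coe b).symm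
    rw [this]
    exact (Subgroup.orderOf_coe _).symm
  have hbpg : IsPGroup q (zpowers b) := by
    apply IsPGroup.of_card (n := e)
    rw [Nat.card_zpowers, hbo]
  obtain ⟨Q, hQ⟩ := hbpg.exists_le_sylow
  have hsup2 := Sylow.normalizer_sup_eq_top Q
  set Q' : Subgroup A := (Q : Subgroup N₁).map N₁.subtype with hQ'
  set Q₁ : Subgroup G := Q'.map A.subtype with hQ₁
  have hdec2 : ∀ g : A, ∃ a ∈ normalizer (Q' : Set A), ∃ k ∈ N₁, a * k = g := by
    intro g
    have h4 : g ∈ ((normalizer (Q' : Set A) ⊔ N₁ : Subgroup A) : Set A) := by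
      rw [hsup2]
      trivial
    rw [mul_normal, Set.mem_mul] at h4
    exact h4
  -- Step 3: an r-element
  obtain ⟨g, hgM, hgr⟩ := hg
  obtain ⟨a', ha'A, k', hk', rfl⟩ := hdec g
  have ha'M : a' ∉ M := fun h => hgM (M.mul_mem h (hKM hk'))
  have hkM : k' ∈ M := hKM hk'
  obtain ⟨y, hy, z, hz, hyz⟩ := hdec2 ⟨a', ha'A⟩
  have hyz' : (y : G) * (z : G) = a' := congrArg Subtype.val hyz
  have hzM : (z : G) ∈ M := hz
  have hyM : (y : G) ∉ M := by
    intro h
    apply ha'M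
    rw [← hyz']
    exact M.mul_mem h hzM
  have hyr : (y : G) ^ r ∈ M := by
    have h4 : (QuotientGroup.mk (y : G) : G ⧸ M) = QuotientGroup.mk (a' * k') := by
      rw [← hyz', QuotientGroup.mk_mul, QuotientGroup.mk_mul, (QuotientGroup.eq_one_iff k').2 hkM,
        (QuotientGroup.eq_one_iff _).2 hzM, mul_one, mul_one]
    rw [← QuotientGroup.eq_one_iff, QuotientGroup.mk_pow, h4, ← QuotientGroup.mk_pow, QuotientGroup.eq_one_iff]
    exact hgr
  have hrd := dvd_orderOf_of_pow_mem hr hyM hyr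
  set x : G := (y : G) ^ (orderOf (y : G) / r) with hx
  have hxo : orderOf x = r := orderOf_pow_orderOf_div (orderOf_pos _).ne' hrd
  have hxA : x ∈ A := A.pow_mem y.2 _
  have hxQ : x ∈ normalizer (Q₁ : Set G) := pow_mem (normalizer_map_subtype A Q' hy) _
  have hQ₁p : IsPGroup q Q₁ := IsPGroup.map (IsPGroup.map Q.2 N₁.subtype) A.subtype
  have hQ₁ne : Q₁ ≠ ⊥ := by
    intro h
    have h4 : a₁ ∈ Q₁ := ⟨⟨a₁, ha1A⟩, ⟨b, hQ (mem_zpowers b), rfl⟩, rfl⟩
    rw [h, Subgroup.mem_bot] at h4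
    exact ha11 h4
  have hQ₁A : Q₁ ≤ A := by
    rintro _ ⟨t, _, rfl⟩
    exact t.2
  exact no_config hp hq hr hpq hpr hqr h1 h2 h3 V Q₁ x hVp hVne hVab hQ₁p hQ₁ne hxo (hQ₁A.trans hAV) (hAV hxA) hxQ

/-- S3634. -/
theorem s3634 (K M : Subgroup G) [K.Normal] [M.Normal] (hKM : K ≤ M)
    (p q r : ℕ) (hp : p.Prime) (hq : q.Prime) (hr : r.Prime) (hpq : p ≠ q) (hpr : p ≠ r) (hqr : q ≠ r)
    (hpK : p ∣ Nat.card ↥K) (hqM : q ∣ Nat.card ↥M / Nat.card ↥K) (hrG : r ∣ Nat.card G / Nat.card ↥M) :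
    (∃ x : G, orderOf x = p * q) ∨ (∃ x : G, orderOf x = p * r) ∨ (∃ x : G, orderOf x = q * r) := by
  classical
  haveI := Fact.mk hq
  haveI := Fact.mk hr
  by_contra hcon
  push_neg at hcon
  obtain ⟨h1, h2, h3⟩ := hcon
  refine chain_false hKM hp hq hr hpq hpr hqr (by simpa using h1) (by simpa using h2) (by simpa using h3) hpK ?_ ?_
  · -- element of M mod K
    let K' : Subgroup M := K.subgroupOf M
    have hcard : Nat.card M / Nat.card K = Nat.card (M ⧸ K') := by
      have h4 : Nat.card K' = Nat.card K := Nat.card_congr (Subgroup.subgroupOfEquivOfLe hKM).toEquiv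
      have h5 := Subgroup.card_eq_card_quotient_mul_card_subgroup K'
      rw [h4] at h5
      rw [h5]
      exact Nat.mul_div_cancel _ Nat.card_pos
    rw [hcard] at hqM
    obtain ⟨t, ht⟩ := exists_prime_orderOf_dvd_card' q hqM
    obtain ⟨m, rfl⟩ := QuotientGroup.mk_surjective t
    refine ⟨m, m.2, ?_, ?_⟩
    · intro h
      have h4 : (QuotientGroup.mk m : M ⧸ K') = 1 := (QuotientGroup.eq_one_iff m).2 h
      rw [h4, orderOf_one] at ht
      exact hq.one_lt.ne ht
    · have h4 := pow_orderOf_eq_one (QuotientGroup.mk m : M ⧸ K')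
      rw [ht, ← QuotientGroup.mk_pow, QuotientGroup.eq_one_iff] at h4
      exact h4
  · have hcard : Nat.card G / Nat.card M = Nat.card (G ⧸ M) := by
      have h5 := Subgroup.card_eq_card_quotient_mul_card_subgroup M
      rw [h5]
      exact Nat.mul_div_cancel _ Nat.card_pos
    rw [hcard] at hrG
    obtain ⟨t, ht⟩ := exists_prime_orderOf_dvd_card' r hrG
    obtain ⟨m, rfl⟩ := QuotientGroup.mk_surjective t
    refine ⟨m, ?_, ?_⟩
    · intro h
      have h4 : (QuotientGroup.mk m : G ⧸ M) = 1 := (QuotientGroup.eq_one_iff m).2 h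
      rw [h4, orderOf_one] at ht
      exact hr.one_lt.ne ht
    · have h4 := pow_orderOf_eq_one (QuotientGroup.mk m : G ⧸ M)
      rw [ht, ← QuotientGroup.mk_pow, QuotientGroup.eq_one_iff] at h4
      exact h4

end CfsgLib.Rec
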