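import Mathlib

/-! # The subgroup generated by the derangements -/

set_option autoImplicit false
set_option linter.unusedVariables false
set_option linter.unusedSectionVars false

namespace CfsgLib.Rec

open MulAction

universe u v

section Burnside

variable {G : Type u} {Ω : Type v} [Group G] [MulAction G Ω]

/-- The number of fixed points. -/
noncomputable def fx (Ω : Type v) [MulAction G Ω] (g : G) : ℕ := Nat.card (fixedBy Ω g)

theorem sum_fx [Fintype G] [Finite Ω] : ∑ g : G, fx Ω g = Nat.card (orbitRel.Quotient G Ω) * Nat.card G := by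
  classical
  letI : Fintype Ω := Fintype.ofFinite Ω
  letI : Fintype (orbitRel.Quotient G Ω) := Fintype.ofFinite _
  have h := MulAction.sum_card_fixedBy_eq_card_orbits_mul_card_group G Ω
  simp only [fx, Nat.card_eq_fintype_card]
  exact h

open Classical in
theorem sum_fx_subgroup [Fintype G] [Finite Ω] (D : Subgroup G) :
    ∑ g ∈ Finset.univ.filter (· ∈ D), fx Ω g = Nat.card (orbitRel.Quotient D Ω) * Nat.card D := by
  classical
  letI : Fintype D := Fintype.ofFinite D
  have h := sum_fx (G := D) (Ω := Ω)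
  rw [← h]
  rw [Finset.sum_subtype (Finset.univ.filter (· ∈ D)) (p := (· ∈ D)) (by simp)]
  rfl

theorem derange_main [Fintype G] [Finite Ω] [Nonempty Ω] (htrans : IsPretransitive G Ω) (D : Subgroup G)
    (hD : ∀ g : G, (∀ ω : Ω, g • ω ≠ ω) → g ∈ D) :
    IsPretransitive D Ω ∧ ∀ g : G, g ∉ D → fx Ω g = 1 := by
  classical
  have h1 : ∑ g : G, fx Ω g = Nat.card G := by
    rw [sum_fx]
    have : Nat.card (orbitRel.Quotient G Ω) = 1 := by
      have h2 := (pretransitive_iff_subsingleton_quotient (G := G) (α := Ω)).1 htrans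
      rw [Nat.card_eq_one_iff_unique]
      exact ⟨h2, ⟨Quotient.mk'' (Classical.arbitrary Ω)⟩⟩
    rw [this, one_mul]
  have h2 := sum_fx_subgroup (Ω := Ω) D
  have h3 := Finset.sum_filter_add_sum_filter_not (Finset.univ : Finset G) (· ∈ D) (fx Ω)
  rw [h1, h2] at h3
  set m := Nat.card (orbitRel.Quotient D Ω) with hm
  set S := ∑ g ∈ Finset.univ.filter (fun g => ¬ g ∈ D), fx Ω g with hS
  have hmpos : 1 ≤ m := by
    have : Nonempty (orbitRel.Quotient D Ω) := ⟨Quotient.mk'' (Classical.arbitrary Ω)⟩
    exact Nat.card_pos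
  have hcard : Nat.card D + (Finset.univ.filter (fun g => ¬ g ∈ D)).card = Nat.card G := by
    have h4 := Finset.card_filter_add_card_filter_not (s := (Finset.univ : Finset G)) (· ∈ D)
    rw [Finset.card_univ, ← Nat.card_eq_fintype_card] at h4
    have h5 : (Finset.univ.filter (· ∈ D)).card = Nat.card D := by
      rw [Nat.card_eq_fintype_card (α := D)]
      rw [Fintype.card_subtype]
    rw [h5] at h4
    exact h4
  have hge : ∀ g ∈ Finset.univ.filter (fun g => ¬ g ∈ D), 1 ≤ fx Ω g := by
    intro g hg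
    have hg' : g ∉ D := (Finset.mem_filter.1 hg).2
    have hex : ∃ ω : Ω, g • ω = ω := by
      by_contra hcon
      push_neg at hcon
      exact hg' (hD g hcon)
    obtain ⟨ω, hω⟩ := hex
    haveI : Nonempty (fixedBy Ω g) := ⟨⟨ω, hω⟩⟩
    exact Nat.card_pos
  have hSge : (Finset.univ.filter (fun g => ¬ g ∈ D)).card ≤ S := by
    have := Finset.card_nsmul_le_sum _ _ 1 hge
    simpa using this
  have hDpos : 0 < Nat.card D := Nat.card_pos
  have hm1 : m = 1 := by
    by_contra hne
    have h5 : 2 ≤ m := by omega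
    have h6 : 2 * Nat.card D ≤ m * Nat.card D := Nat.mul_le_mul_right _ h5
    omega
  rw [hm1, one_mul] at h3
  refine ⟨?_, ?_⟩
  · rw [pretransitive_iff_subsingleton_quotient]
    have := (Nat.card_eq_one_iff_unique (α := orbitRel.Quotient D Ω)).1 hm1
    exact this.1
  · intro g hg
    by_contra hne
    have h5 : 1 ≤ fx Ω g := hge g (by simpa using hg)
    have h6 : 1 < fx Ω g := by omega
    have h7 := Finset.sum_lt_sum (s := Finset.univ.filter (fun g => ¬ g ∈ D)) (f := fun _ => 1) (g := fx Ω) hge ⟨g, by simpa using hg, h6⟩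
    simp only [Finset.sum_const, smul_eq_mul, mul_one] at h7
    omega

theorem fx_eq_one_unique [Finite Ω] {g : G} (h : fx Ω g = 1) {a b : Ω} (ha : g • a = a) (hb : g • b = b) : a = b := by
  have := (Nat.card_eq_one_iff_unique (α := fixedBy Ω g)).1 h
  haveI := this.1
  have h2 : (⟨a, ha⟩ : fixedBy Ω g) = ⟨b, hb⟩ := Subsingleton.elim _ _
  exact congrArg Subtype.val h2

end Burnside

section Free

/-- The index of a subgroup outside which the action is free divides the number of points. -/
theorem index_dvd_card_of_free {H : Type u} {Y : Type v} [Group H] [Finite H] [MulAction H Y] [Finite Y] (L : Subgroup H)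
    (hfree : ∀ h : H, h ∉ L → ∀ y : Y, h • y ≠ y) : L.index ∣ Nat.card Y := by
  classical
  letI : Fintype Y := Fintype.ofFinite Y
  letI : Fintype (orbitRel.Quotient H Y) := Fintype.ofFinite _
  have h := Nat.card_congr (selfEquivSigmaOrbits H Y)
  rw [Nat.card_sigma] at h
  rw [h]
  apply Finset.dvd_sum
  intro q _
  rw [Nat.card_coe_set_eq, ← index_stabilizer]
  apply Subgroup.index_dvd_of_le
  intro h hh
  by_contra hL
  exact hfree h hL _ hh

end Free

section Main

variable {G : Type u} {Ω : Type v} [Group G] [MulAction G Ω]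

/-- The derangement subgroup. -/
def derS (G : Type u) (Ω : Type v) [Group G] [MulAction G Ω] : Subgroup G :=
  Subgroup.closure {g : G | ∀ ω : Ω, g • ω ≠ ω}

instance derS_normal : (derS G Ω).Normal := by
  constructor
  intro x hx g
  induction hx using Subgroup.closure_induction with
  | mem x hx =>
    apply Subgroup.subset_closure
    intro ω h
    apply hx (g⁻¹ • ω)
    have h2 := congrArg (g⁻¹ • ·) h
    simpa [mul_smul] using h2
  | one => simp [Subgroup.one_mem]
  | mul x y _ _ hx hy =>
    have : g * (x * y) * g⁻¹ = (g * x * g⁻¹) * (g * y * g⁻¹) := by group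
    rw [this]
    exact Subgroup.mul_mem _ hx hy
  | inv x _ hx =>
    have : g * x⁻¹ * g⁻¹ = (g * x * g⁻¹)⁻¹ := by group
    rw [this]
    exact Subgroup.inv_mem _ hx

theorem mem_derS_of_derangement {g : G} (h : ∀ ω : Ω, g • ω ≠ ω) : g ∈ derS G Ω :=
  Subgroup.subset_closure h

/-- The action of the stabilizer on the other points. -/
instance stabOther (ω : Ω) : MulAction (stabilizer G ω) {x : Ω // x ≠ ω} where
  smul h x := ⟨(h : G) • (x : Ω), fun hx => x.2 (by
    have h1 := congrArg ((h : G)⁻¹ • ·) hx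
    have h2 : (h : G) • ω = ω := h.2
    have h3 : (h : G)⁻¹ • ω = ω := inv_smul_eq_iff.2 h2.symm
    simpa [h3] using h1)⟩
  one_smul x := Subtype.ext (one_smul G (x : Ω))
  mul_smul a b x := Subtype.ext (mul_smul (a : G) (b : G) (x : Ω))

theorem stabOther_coe (ω : Ω) (h : stabilizer G ω) (x : {x : Ω // x ≠ ω}) : ((h • x : {x : Ω // x ≠ ω}) : Ω) = (h : G) • (x : Ω) := rfl

theorem sup_stab_eq_top (D : Subgroup G) (hD : IsPretransitive D Ω) (ω : Ω) : stabilizer G ω ⊔ D = ⊤ := by
  rw [eq_top_iff]
  intro g _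
  obtain ⟨d, hd⟩ := hD.exists_smul_eq ω (g • ω)
  have hd' : (d : G) • ω = g • ω := hd
  have h1 : (d : G)⁻¹ * g ∈ stabilizer G ω := by
    rw [mem_stabilizer_iff, mul_smul, ← hd', inv_smul_smul]
  have h3 : g = (d : G) * ((d : G)⁻¹ * g) := by group
  rw [h3]
  rw [sup_comm]
  exact Subgroup.mul_mem_sup d.2 h1

theorem index_subgroupOf_stab (D : Subgroup G) [D.Normal] (hD : IsPretransitive D Ω) (ω : Ω) :
    (D.subgroupOf (stabilizer G ω)).index = D.index := by
  have h1 := Subgroup.relIndex_sup_right (stabilizer G ω) D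
  rw [sup_stab_eq_top D hD ω, Subgroup.relIndex_top_right] at h1
  exact h1.symm

variable [Fintype G] [Finite Ω]

theorem free_on_others [Nonempty Ω] (htrans : IsPretransitive G Ω) (ω : Ω) (h : stabilizer G ω) (hh : h ∉ (derS G Ω).subgroupOf (stabilizer G ω))
    (y : {x : Ω // x ≠ ω}) : h • y ≠ y := by
  intro he
  have h1 : (h : G) ∉ derS G Ω := hh
  have h2 := (derange_main htrans (derS G Ω) (fun g hg => mem_derS_of_derangement hg)).2 _ h1
  have h3 : (h : G) • (y : Ω) = y := congrArg Subtype.val he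
  exact y.2 (fx_eq_one_unique h2 h3 h.2)

theorem card_others (ω : Ω) : Nat.card {x : Ω // x ≠ ω} = Nat.card Ω - 1 := by
  classical
  letI : Fintype Ω := Fintype.ofFinite Ω
  rw [Nat.card_eq_fintype_card, Nat.card_eq_fintype_card, Fintype.card_subtype_compl, Fintype.card_subtype_eq]

theorem index_derS_dvd (htrans : IsPretransitive G Ω) (hn : 2 ≤ Nat.card Ω) : (derS G Ω).index ∣ Nat.card Ω - 1 := by
  classical
  have hne : Nonempty Ω := (Nat.card_pos_iff.1 (by omega)).1
  obtain ⟨ω⟩ := hne
  haveI : Nonempty Ω := ⟨ω⟩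
  have h1 := (derange_main htrans (derS G Ω) (fun g hg => mem_derS_of_derangement hg)).1
  rw [← index_subgroupOf_stab (derS G Ω) h1 ω, ← card_others ω]
  apply index_dvd_card_of_free
  exact free_on_others htrans ω

/-- The equality case. -/
theorem isPrimePow_of_index_eq [FaithfulSMul G Ω] (htrans : IsPretransitive G Ω) (hn : 2 ≤ Nat.card Ω)
    (hk : (derS G Ω).index = Nat.card Ω - 1) : IsPrimePow (Nat.card Ω) := by
  classical
  have hne : Nonempty Ω := (Nat.card_pos_iff.1 (by omega)).1
  haveI := hne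
  have hDt := (derange_main htrans (derS G Ω) (fun g hg => mem_derS_of_derangement hg)).1
  set D := derS G Ω with hD
  -- orbits of the stabilizer on the other points
  have horb : ∀ (ω : Ω) (y : {x : Ω // x ≠ ω}), stabilizer (stabilizer G ω) y = D.subgroupOf (stabilizer G ω) ∧
      (orbit (stabilizer G ω) y).ncard = Nat.card Ω - 1 := by
    intro ω y
    have hle : stabilizer (stabilizer G ω) y ≤ D.subgroupOf (stabilizer G ω) := by
      intro h hh
      by_contra hL
      exact free_on_others htrans ω h hL y hh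
    have hi : (D.subgroupOf (stabilizer G ω)).index = Nat.card Ω - 1 := by
      rw [index_subgroupOf_stab D hDt ω, hk]
    have hd : (D.subgroupOf (stabilizer G ω)).index ∣ (stabilizer (stabilizer G ω) y).index := Subgroup.index_dvd_of_le hle
    have hc : (stabilizer (stabilizer G ω) y).index = (orbit (stabilizer G ω) y).ncard := index_stabilizer _ _
    have hle2 : (orbit (stabilizer G ω) y).ncard ≤ Nat.card Ω - 1 := by
      rw [← card_others ω, ← Set.ncard_univ]
      exact Set.ncard_le_ncard (Set.subset_univ _) (Set.toFinite _)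
    have hpos : 0 < (stabilizer (stabilizer G ω) y).index := Nat.pos_of_ne_zero (Subgroup.index_ne_zero_of_finite)
    have heq : (stabilizer (stabilizer G ω) y).index = Nat.card Ω - 1 := by
      apply le_antisymm
      · rw [hc]
        exact hle2
      · rw [← hi]
        exact Nat.le_of_dvd hpos hd
    refine ⟨?_, by rw [← hc, heq]⟩
    apply le_antisymm hle
    have h5 := Subgroup.card_mul_index (stabilizer (stabilizer G ω) y)
    have h6 := Subgroup.card_mul_index (D.subgroupOf (stabilizer G ω))
    rw [heq] at h5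
    rw [hi] at h6
    have h7 : Nat.card (stabilizer (stabilizer G ω) y) = Nat.card (D.subgroupOf (stabilizer G ω)) := by
      have h8 : 0 < Nat.card Ω - 1 := by omega
      exact Nat.eq_of_mul_eq_mul_right h8 (h5.trans h6.symm)
    exact (Subgroup.eq_of_le_of_card_ge hle h7.ge).symm.le
  -- the stabilizers in D are trivial
  have hfree : ∀ (ω : Ω) (d : G), d ∈ D → d • ω = ω → d = 1 := by
    intro ω d hd hdω
    apply FaithfulSMul.eq_of_smul_eq_smul (α := Ω)
    intro x
    rw [one_smul]
    by_cases hx : x = ω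
    · rw [hx]
      exact hdω
    · have h1 := (horb ω ⟨x, hx⟩).1
      have h2 : (⟨d, hdω⟩ : stabilizer G ω) ∈ stabilizer (stabilizer G ω) (⟨x, hx⟩ : {x : Ω // x ≠ ω}) := by
        rw [h1]
        exact hd
      exact congrArg Subtype.val h2
  obtain ⟨ω⟩ := hne
  -- D is regular
  have hbij : Function.Bijective (fun d : D => (d : G) • ω) := by
    constructor
    · intro a b hab
      have h1 : ((b : G)⁻¹ * (a : G)) • ω = ω := by
        rw [mul_smul]
        have hab' : (a : G) • ω = (b : G) • ω := hab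
        rw [hab', inv_smul_smul]
      have h2 := hfree ω _ (D.mul_mem (D.inv_mem b.2) a.2) h1
      apply Subtype.ext
      have h3 := congrArg ((b : G) * ·) h2
      simpa using h3
    · intro x
      obtain ⟨d, hd⟩ := hDt.exists_smul_eq ω x
      exact ⟨d, hd⟩
  have hcard : Nat.card D = Nat.card Ω := Nat.card_congr (Equiv.ofBijective _ hbij)
  -- conjugacy of the nonidentity elements
  have htr : ∀ y y' : {x : Ω // x ≠ ω}, ∃ h : stabilizer G ω, h • y = y' := by
    intro y y'
    have h1 := (horb ω y).2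
    have h2 : orbit (stabilizer G ω) y = Set.univ := by
      apply Set.eq_of_subset_of_ncard_le (Set.subset_univ _)
      rw [Set.ncard_univ, card_others ω, h1]
    have h3 : y' ∈ orbit (stabilizer G ω) y := by
      rw [h2]
      trivial
    obtain ⟨h, hh⟩ := h3
    exact ⟨h, hh⟩
  have hconj : ∀ a b : G, a ∈ D → b ∈ D → a ≠ 1 → b ≠ 1 → ∃ h : G, h * a * h⁻¹ = b := by
    intro a b ha hb ha1 hb1
    have ha2 : a • ω ≠ ω := fun h => ha1 (hfree ω a ha h)
    have hb2 : b • ω ≠ ω := fun h => hb1 (hfree ω b hb h)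
    obtain ⟨h, hh⟩ := htr ⟨a • ω, ha2⟩ ⟨b • ω, hb2⟩
    refine ⟨h, ?_⟩
    have h1 : ((h : G) • a • ω) = b • ω := congrArg Subtype.val hh
    have h2 : (b⁻¹ * ((h : G) * a * (h : G)⁻¹)) • ω = ω := by
      have h3 : ((h : G)⁻¹) • ω = ω := by
        have h4 : (h : G) • ω = ω := h.2
        exact inv_smul_eq_iff.2 h4.symm
      simp only [mul_smul, h3, h1, inv_smul_smul]
    have h5 := hfree ω _ (D.mul_mem (D.inv_mem hb) (Subgroup.Normal.conj_mem inferInstance _ ha _)) h2
    have h6 := congrArg (b * ·) h5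
    simpa using h6
  -- prime power
  have hn1 : Nat.card D ≠ 1 := by
    rw [hcard]
    omega
  obtain ⟨p, hp, hpd⟩ := Nat.exists_prime_and_dvd hn1
  haveI := Fact.mk hp
  obtain ⟨a, ha⟩ := exists_prime_orderOf_dvd_card' p hpd
  have ha1 : (a : G) ≠ 1 := by
    intro h
    have : a = 1 := Subtype.ext h
    rw [this, orderOf_one] at ha
    exact hp.one_lt.ne ha
  have ha' : orderOf (a : G) = p := by rw [Subgroup.orderOf_coe, ha]
  have hpg : IsPGroup p D := by
    rw [IsPGroup.iff_orderOf]
    intro b
    by_cases hb : (b : G) = 1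
    · refine ⟨0, ?_⟩
      have : b = 1 := Subtype.ext hb
      rw [this]
      simp
    · obtain ⟨h, hh⟩ := hconj a b a.2 b.2 ha1 hb
      refine ⟨1, ?_⟩
      rw [pow_one, ← Subgroup.orderOf_coe, ← hh, ← ha']
      exact MulEquiv.orderOf_eq (MulAut.conj h) _
  obtain ⟨k, hk'⟩ := IsPGroup.iff_card.1 hpg
  rw [hcard] at hk'
  rw [hk', isPrimePow_nat_iff]
  refine ⟨p, k, hp, ?_, rfl⟩
  rcases Nat.eq_zero_or_pos k with h | h
  · rw [h, pow_zero] at hk'
    omega
  · exact h

end Main

end CfsgLib.Rec
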