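import Cfsg.Agent.Lib.Rec.Derange

/-! # Imprimitive groups and derangements -/

set_option autoImplicit false
set_option linter.unusedVariables false
set_option linter.unusedSectionVars false

namespace CfsgLib.Rec

open MulAction
open scoped Pointwise

universe u v

variable {G : Type u} {Ω : Type v} [Group G] [MulAction G Ω] [Fintype G] [Finite Ω]

/-- A coset argument: if `N` is transitive on `Z`, `x` stabilizes `Z`, and all the elements
of `x N` have at most one fixed point in `Z`, then `x` has a fixed point in `Z`. -/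
theorem coset_fixed {N : Subgroup G} {Z : Set Ω} (hZne : Z.Nonempty) (x : G)
    (hNZ : ∀ n ∈ N, ∀ z ∈ Z, n • z ∈ Z) (htr : ∀ z ∈ Z, ∀ z' ∈ Z, ∃ n ∈ N, n • z = z')
    (hxZ : ∀ z ∈ Z, x⁻¹ • z ∈ Z)
    (hone : ∀ n ∈ N, ∀ z ∈ Z, ∀ z' ∈ Z, (x * n) • z = z → (x * n) • z' = z' → z = z') :
    ∃ z ∈ Z, x • z = z := by
  classical
  letI : Fintype Ω := Fintype.ofFinite Ω
  letI : Fintype N := Fintype.ofFinite N
  -- the sets S z
  let ZF : Finset Ω := Z.toFinite.toFinset
  have hmemZ : ∀ z, z ∈ ZF ↔ z ∈ Z := fun z => Set.Finite.mem_toFinset _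
  let S : Ω → Finset N := fun z => Finset.univ.filter fun n : N => (x * (n : G)) • z = z
  have hdisj : (ZF : Set Ω).PairwiseDisjoint S := by
    intro z hz z' hz' hne
    rw [Function.onFun, Finset.disjoint_left]
    intro n hn hn'
    have h1 := (Finset.mem_filter.1 hn).2
    have h2 := (Finset.mem_filter.1 hn').2
    exact hne (hone n n.2 z ((hmemZ z).1 hz) z' ((hmemZ z').1 hz') h1 h2)
  -- sizes
  have hsize : ∀ z ∈ Z, (S z).card * Z.ncard = Nat.card N := by
    intro z hz
    -- the orbit of z under N is Z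
    have horb : orbit N z = Z := by
      ext w
      constructor
      · rintro ⟨n, rfl⟩
        exact hNZ n n.2 z hz
      · intro hw
        obtain ⟨n, hn, hnw⟩ := htr z hz w hw
        exact ⟨⟨n, hn⟩, hnw⟩
    -- an element of S z
    obtain ⟨n₀, hn₀, hn₀z⟩ := htr z hz (x⁻¹ • z) (hxZ z hz)
    have hS : (S z).card = Nat.card (stabilizer N z) := by
      rw [Nat.card_eq_fintype_card, Fintype.card_subtype]
      refine Finset.card_bij' (fun n _ => ⟨(n₀ : G)⁻¹ * n, N.mul_mem (N.inv_mem hn₀) n.2⟩)
        (fun n _ => ⟨n₀ * (n : G), N.mul_mem hn₀ n.2⟩) ?_ ?_ ?_ ?_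
      · intro n hn
        have h1 : (x * (n : G)) • z = z := (Finset.mem_filter.1 hn).2
        simp only [Finset.mem_filter, Finset.mem_univ, true_and, mem_stabilizer_iff]
        show ((n₀ : G)⁻¹ * n) • z = z
        rw [mul_smul]
        have h2 : (n : G) • z = x⁻¹ • z := by
          rw [mul_smul] at h1
          exact (eq_inv_smul_iff.2 h1)
        rw [h2, ← hn₀z, inv_smul_smul]
      · intro n hn
        have h1 : (n : N) • z = z := (Finset.mem_filter.1 hn).2
        have h1' : (n : G) • z = z := h1
        simp only [S, Finset.mem_filter, Finset.mem_univ, true_and]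
        rw [mul_smul, mul_smul, h1', hn₀z, smul_inv_smul]
      · intro n hn
        apply Subtype.ext
        simp
      · intro n hn
        apply Subtype.ext
        simp
    rw [hS, ← horb, mul_comm, ← Nat.card_coe_set_eq, ← Nat.card_prod]
    exact Nat.card_congr (orbitProdStabilizerEquivGroup N z)
  obtain ⟨z₀, hz₀⟩ := hZne
  have hun : (ZF.biUnion S).card = Nat.card N := by
    rw [Finset.card_biUnion hdisj]
    have h1 : ∀ z ∈ ZF, (S z).card = (S z₀).card := by
      intro z hz
      have h2 := hsize z ((hmemZ z).1 hz)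
      have h3 := hsize z₀ hz₀
      have hZpos : 0 < Z.ncard := (Set.ncard_pos Z.toFinite).2 ⟨z₀, hz₀⟩
      exact Nat.eq_of_mul_eq_mul_right hZpos (h2.trans h3.symm)
    rw [Finset.sum_congr rfl h1, Finset.sum_const, smul_eq_mul]
    have h4 : ZF.card = Z.ncard := by
      rw [Set.ncard_eq_toFinset_card Z Z.toFinite]
    rw [h4, mul_comm]
    exact hsize z₀ hz₀
  have hall : ZF.biUnion S = Finset.univ := by
    apply Finset.eq_univ_of_card
    rw [hun, Nat.card_eq_fintype_card]
  have h1 : (1 : N) ∈ ZF.biUnion S := by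
    rw [hall]
    exact Finset.mem_univ _
  rw [Finset.mem_biUnion] at h1
  obtain ⟨z, hz, hz1⟩ := h1
  refine ⟨z, (hmemZ z).1 hz, ?_⟩
  have h2 := (Finset.mem_filter.1 hz1).2
  simpa using h2

/-- The divisibility for an invariant subset. -/
theorem index_dvd_ncard_of_free {H : Type u} {Y : Type v} [Group H] [Finite H] [MulAction H Y] [Finite Y] (L : Subgroup H) (S : Set Y)
    (hinv : ∀ h : H, ∀ y ∈ S, h • y ∈ S) (hfree : ∀ h : H, h ∉ L → ∀ y ∈ S, h • y ≠ y) : L.index ∣ S.ncard := by
  let S' : SubMulAction H Y := { carrier := S, smul_mem' := fun h y hy => hinv h y hy }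
  have h := index_dvd_card_of_free (Y := S') L (fun h hh y he => hfree h hh y y.2 (congrArg Subtype.val he))
  have h2 : Nat.card S' = S.ncard := Nat.card_coe_set_eq S
  rwa [h2] at h

/-- The bound for imprimitive groups. -/
theorem sqrt_bound (htrans : IsPretransitive G Ω) (himp : ¬ IsPreprimitive G Ω) :
    ((derS G Ω).index : ℝ) ≤ Real.sqrt (Nat.card Ω) - 1 := by
  classical
  haveI := htrans
  have hex : ∃ B : Set Ω, IsBlock G B ∧ ¬ IsTrivialBlock B := by
    by_contra h
    push_neg at h
    exact himp { toIsPretransitive := htrans, isTrivialBlock_of_isBlock := fun {B} hB => h B hB }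
  obtain ⟨B, hB, hBt⟩ := hex
  have hBs : ¬ B.Subsingleton := fun h => hBt (Or.inl h)
  have hBu : B ≠ Set.univ := fun h => hBt (Or.inr h)
  obtain ⟨ω, hω, ω', hω', hne⟩ := Set.not_subsingleton_iff.1 hBs
  haveI : Nonempty Ω := ⟨ω⟩
  have hmain := derange_main htrans (derS G Ω) (fun g hg => mem_derS_of_derangement hg)
  obtain ⟨hDt, hone⟩ := hmain
  set D := derS G Ω with hD
  set k := D.index with hk
  have hkL : (D.subgroupOf (stabilizer G ω)).index = k := index_subgroupOf_stab D hDt ω
  have hbc := hB.ncard_block_mul_ncard_orbit_eq ⟨ω, hω⟩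
  set b := B.ncard with hb
  set c := (orbit G B).ncard with hc
  have hb2 : 2 ≤ b := by
    have : 1 < B.ncard := (Set.one_lt_ncard_iff B.toFinite).2 ⟨ω, ω', hω, hω', hne⟩
    exact this
  have hBorb : B ∈ orbit G B := mem_orbit_self B
  have hc2 : 2 ≤ c := by
    by_contra hlt
    have hc1 : c = 1 := by
      have h1 : 0 < c := (Set.ncard_pos (Set.toFinite _)).2 ⟨B, hBorb⟩
      omega
    rw [hc1, mul_one] at hbc
    apply hBu
    apply Set.eq_of_subset_of_ncard_le (Set.subset_univ _)
    rw [Set.ncard_univ, ← hbc]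
  -- the stabilizer
  have hstab : ∀ h : stabilizer G ω, (h : G) • B = B := by
    intro h
    apply hB.smul_eq_of_mem hω
    have h2 : (h : G) • ω = ω := h.2
    rw [h2]
    exact hω
  have hfp : ∀ h : stabilizer G ω, h ∉ D.subgroupOf (stabilizer G ω) → ∀ y : Ω, (h : G) • y = y → y = ω := by
    intro h hh y hy
    have h1 : (h : G) ∉ D := hh
    exact fx_eq_one_unique (hone _ h1) hy h.2
  -- Step A
  have hA : k ∣ b - 1 := by
    rw [← hkL, hb, ← Set.ncard_diff_singleton_of_mem hω]
    apply index_dvd_ncard_of_free (H := stabilizer G ω) (Y := Ω)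
    · rintro h y ⟨hy, hyω⟩
      refine ⟨?_, ?_⟩
      · have : (h : G) • y ∈ (h : G) • B := Set.smul_mem_smul_set hy
        rw [hstab h] at this
        exact this
      · intro h2
        apply hyω
        have h3 : (h : G) • y = ω := h2
        have h4 : (h : G) • ω = ω := h.2
        exact MulAction.injective (h : G) (h3.trans h4.symm)
    · rintro h hh y ⟨hy, hyω⟩ he
      exact hyω (hfp h hh y he)
  -- Step B
  have hB2 : k ∣ c - 1 := by
    rw [← hkL, hc, ← Set.ncard_diff_singleton_of_mem hBorb]
    apply index_dvd_ncard_of_free (H := stabilizer G ω) (Y := Set Ω)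
    · rintro h B' ⟨hB', hne'⟩
      refine ⟨?_, ?_⟩
      · obtain ⟨g, rfl⟩ := hB'
        exact ⟨(h : G) * g, by simp only [mul_smul]; rfl⟩
      · intro h2
        apply hne'
        have h3 : (h : G) • B' = B := h2
        have h4 := congrArg ((h : G)⁻¹ • ·) h3
        simp only [inv_smul_smul] at h4
        show B' = B
        rw [h4]
        exact inv_smul_eq_iff.2 (hstab h).symm
    · rintro h hh B' ⟨hB', hne'⟩ he
      have he' : (h : G) • B' = B' := he
      obtain ⟨g, hg⟩ := hB'
      have hB'b : IsBlock G B' := by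
        rw [← hg]
        exact hB.translate g
      have hB'ne : B'.Nonempty := by
        rw [← hg]
        exact Set.Nonempty.smul_set ⟨ω, hω⟩
      have hmemB' : ∀ {d : G} {z : Ω}, d • B' = B' → z ∈ B' → d • z ∈ B' := by
        intro d z hd hz
        have : d • z ∈ d • B' := Set.smul_mem_smul_set hz
        rwa [hd] at this
      have hhD : (h : G) ∉ D := hh
      obtain ⟨z, hz, hzfix⟩ := coset_fixed (N := D ⊓ stabilizer G B') hB'ne (h : G)
        (fun n hn z hz => hmemB' hn.2 hz)
        (fun z hz z' hz' => by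
          obtain ⟨d, hd⟩ := hDt.exists_smul_eq z z'
          have hd' : (d : G) • z = z' := hd
          refine ⟨d, ⟨d.2, ?_⟩, hd'⟩
          apply hB'b.smul_eq_of_mem hz
          rw [hd']
          exact hz')
        (fun z hz => by
          apply hmemB' _ hz
          conv_lhs => rw [← he']
          simp)
        (fun n hn z hz z' hz' h1 h2 => by
          have h3 : (h : G) * n ∉ D := by
            intro h4
            apply hhD
            have h5 : (h : G) = (h : G) * n * n⁻¹ := by group
            rw [h5]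
            exact D.mul_mem h4 (D.inv_mem hn.1)
          exact fx_eq_one_unique (hone _ h3) h1 h2)
      have hzω : z = ω := hfp h hh z hzfix
      rw [hzω] at hz
      apply hne'
      -- ω lies in B' and B
      have hg' : g • B = B' := hg
      show B' = B
      rcases hB.smul_eq_or_disjoint g with h7 | h7
      · rw [← hg', h7]
      · exfalso
        rw [hg'] at h7
        exact Set.disjoint_left.1 h7 hz hω
  have hk1 : k ≤ b - 1 := Nat.le_of_dvd (by omega) hA
  have hk2 : k ≤ c - 1 := Nat.le_of_dvd (by omega) hB2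
  have hsq : (k + 1) * (k + 1) ≤ Nat.card Ω := by
    rw [← hbc]
    exact Nat.mul_le_mul (by omega) (by omega)
  have hr : ((k : ℝ) + 1) ≤ Real.sqrt (Nat.card Ω) := by
    apply Real.le_sqrt_of_sq_le
    have : (((k + 1) * (k + 1) : ℕ) : ℝ) ≤ (Nat.card Ω : ℝ) := by exact_mod_cast hsq
    push_cast at this
    nlinarith
  linarith

/-- Permutation groups all of whose derangements are involutions. -/
theorem s3555_aux [FaithfulSMul G Ω] (htrans : IsPretransitive G Ω) (hinv : ∀ g : G, (∀ ω : Ω, g • ω ≠ ω) → orderOf g = 2) [Nonempty Ω] :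
    (∀ g : G, g ≠ 1 → ∀ a b : Ω, g • a = a → g • b = b → a = b) := by
  classical
  letI : Fintype Ω := Fintype.ofFinite Ω
  set T : Finset G := Finset.univ.filter fun g => ∀ ω : Ω, g • ω ≠ ω with hT
  have hTinv : ∀ t ∈ T, t * t = 1 := by
    intro t ht
    have h1 := hinv t (Finset.mem_filter.1 ht).2
    have h2 := pow_orderOf_eq_one t
    rw [h1, pow_two] at h2
    exact h2
  -- fixed point count
  set f : G → ℕ := fun g => (Finset.univ.filter fun ω : Ω => g • ω = ω).card with hf
  set n := Fintype.card Ω with hn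
  have hnpos : 0 < n := Fintype.card_pos
  have hfx : ∀ g, fx Ω g = f g := by
    intro g
    simp only [fx, hf]
    rw [Nat.card_eq_fintype_card, ← Set.toFinset_card]
    congr 1
    ext ω
    simp [MulAction.mem_fixedBy]
  have hsum : ∑ g : G, f g = Fintype.card G := by
    have h1 := sum_fx (G := G) (Ω := Ω)
    simp only [hfx] at h1
    rw [h1, ← Nat.card_eq_fintype_card]
    have : Nat.card (orbitRel.Quotient G Ω) = 1 := by
      have h2 := (pretransitive_iff_subsingleton_quotient (G := G) (α := Ω)).1 htrans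
      rw [Nat.card_eq_one_iff_unique]
      exact ⟨h2, ⟨Quotient.mk'' (Classical.arbitrary Ω)⟩⟩
    rw [this, one_mul]
  -- double counting
  set R : Ω → ℕ := fun ω => ∑ g ∈ Finset.univ.filter (fun g : G => g • ω = ω), (f g - 1) with hR
  have hRsum : ∑ ω : Ω, R ω = ∑ g : G, f g * (f g - 1) := by
    simp only [hR, Finset.sum_filter]
    rw [Finset.sum_comm]
    refine Finset.sum_congr rfl fun g _ => ?_
    rw [← Finset.sum_filter, Finset.sum_const, smul_eq_mul]
  have hTR : ∀ ω : Ω, T.card ≤ R ω := by
    intro ω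
    -- an injection
    let Dset : Finset (G × Ω) := (Finset.univ.filter (fun g : G => g • ω = ω)).sigma (fun g => Finset.univ.filter fun β : Ω => g • β = β ∧ β ≠ ω) |>.map ⟨fun x => (x.1, x.2), fun x y h => by
      cases x; cases y; simp only [Prod.mk.injEq] at h; obtain ⟨rfl, rfl⟩ := h; rfl⟩
    have hDcard : Dset.card = R ω := by
      rw [Finset.card_map, Finset.card_sigma]
      refine Finset.sum_congr rfl fun g hg => ?_
      have hgω : g • ω = ω := (Finset.mem_filter.1 hg).2
      have h1 : (Finset.univ.filter fun β : Ω => g • β = β) = insert ω (Finset.univ.filter fun β : Ω => g • β = β ∧ β ≠ ω) := by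
        ext β
        simp only [Finset.mem_filter, Finset.mem_univ, true_and, Finset.mem_insert]
        constructor
        · intro h
          by_cases hb : β = ω
          · exact Or.inl hb
          · exact Or.inr ⟨h, hb⟩
        · rintro (rfl | h)
          · exact hgω
          · exact h.1
      show _ = f g - 1
      rw [hf]
      simp only
      rw [h1, Finset.card_insert_of_notMem (by simp)]
      simp
    rw [← hDcard]
    -- choose a base point
    choose! base hbase using (fun β : Ω => (show (∃ t : G, (∃ t' ∈ T, t' • ω = β) → (t ∈ T ∧ t • ω = β)) by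
      by_cases h : ∃ t' ∈ T, t' • ω = β
      · obtain ⟨t', ht', h2⟩ := h
        exact ⟨t', fun _ => ⟨ht', h2⟩⟩
      · exact ⟨1, fun h' => absurd h' h⟩))
    apply Finset.card_le_card_of_injOn (fun t => ((base (t • ω))⁻¹ * t, t • ω))
    · intro t ht
      have ht' : t ∈ T := ht
      have hb := hbase (t • ω) ⟨t, ht', rfl⟩
      have h1 : t • ω ≠ ω := (Finset.mem_filter.1 ht').2 ω
      simp only [Dset, Finset.coe_map, Set.mem_image, Finset.mem_coe, Finset.mem_sigma, Finset.mem_filter, Finset.mem_univ, true_and]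
      refine ⟨⟨(base (t • ω))⁻¹ * t, t • ω⟩, ⟨?_, ?_, h1⟩, rfl⟩
      · show ((base (t • ω))⁻¹ * t) • ω = ω
        rw [mul_smul, inv_smul_eq_iff]
        exact hb.2.symm
      · show ((base (t • ω))⁻¹ * t) • (t • ω) = t • ω
        have h2 : t • t • ω = ω := by
          rw [← mul_smul, hTinv t ht', one_smul]
        have h3 : (base (t • ω))⁻¹ • ω = t • ω := by
          have h4 : base (t • ω) • base (t • ω) • ω = ω := by
            rw [← mul_smul, hTinv _ hb.1, one_smul]
          rw [inv_smul_eq_iff]
          rw [hb.2] at h4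
          exact h4.symm
        rw [mul_smul, h2, h3]
    · intro s hs t ht hst
      simp only [Prod.mk.injEq] at hst
      obtain ⟨h1, h2⟩ := hst
      rw [h2] at h1
      exact mul_left_cancel h1
  have hupper : n * T.card ≤ ∑ g : G, f g * (f g - 1) := by
    rw [← hRsum]
    calc n * T.card = ∑ ω : Ω, T.card := by simp [hn]
      _ ≤ ∑ ω : Ω, R ω := Finset.sum_le_sum fun ω _ => hTR ω
  -- the quadratic identity, in ℤ
  have hid : ((∑ g : G, f g * (f g - 1) : ℕ) : ℤ) = ∑ g : G, ((f g : ℤ) - 1) * ((f g : ℤ) - n) := by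
    have h1 : ∑ g : G, ((f g : ℤ) - 1) * ((f g : ℤ) - n) = ∑ g : G, (((f g : ℤ) * ((f g : ℤ) - 1)) - n * (f g : ℤ) + n) := by
      refine Finset.sum_congr rfl fun g _ => ?_
      ring
    rw [h1, Finset.sum_add_distrib, Finset.sum_sub_distrib, ← Finset.mul_sum]
    have h2 : ∑ g : G, (f g : ℤ) = Fintype.card G := by
      rw [← Nat.cast_sum, hsum]
    rw [h2]
    simp only [Finset.sum_const, Finset.card_univ, nsmul_eq_mul]
    push_cast
    have h3 : ∀ g : G, ((f g * (f g - 1) : ℕ) : ℤ) = (f g : ℤ) * ((f g : ℤ) - 1) := by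
      intro g
      rcases Nat.eq_zero_or_pos (f g) with h | h
      · simp [h]
      · push_cast [Nat.cast_sub h]
        ring
    rw [show ∑ g : G, ((f g : ℤ) * ((f g : ℤ) - 1)) = ∑ g : G, ((f g * (f g - 1) : ℕ) : ℤ) from Finset.sum_congr rfl fun g _ => (h3 g).symm]
    push_cast
    ring
  -- split the sum according to derangements
  have hsplit : ∑ g : G, ((f g : ℤ) - 1) * ((f g : ℤ) - n) = n * T.card + ∑ g ∈ Finset.univ.filter (fun g => g ∉ T), ((f g : ℤ) - 1) * ((f g : ℤ) - n) := by
    rw [← Finset.sum_filter_add_sum_filter_not Finset.univ (· ∈ T)]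
    congr 1
    have h1 : ∀ g ∈ Finset.univ.filter (· ∈ T), ((f g : ℤ) - 1) * ((f g : ℤ) - n) = n := by
      intro g hg
      have hgT : g ∈ T := (Finset.mem_filter.1 hg).2
      have h2 : f g = 0 := by
        simp only [hf]
        rw [Finset.card_eq_zero, Finset.filter_eq_empty_iff]
        intro ω _
        exact (Finset.mem_filter.1 hgT).2 ω
      rw [h2]
      push_cast
      ring
    rw [Finset.sum_congr rfl h1, Finset.sum_const, nsmul_eq_mul]
    have h3 : (Finset.univ.filter (· ∈ T)) = T := by
      ext g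
      simp
    rw [h3]
    ring
  have hfle : ∀ g, f g ≤ n := fun g => by
    simp only [hf, hn]
    exact (Finset.card_filter_le _ _).trans (by simp)
  have hterm : ∀ g ∈ Finset.univ.filter (fun g => g ∉ T), ((f g : ℤ) - 1) * ((f g : ℤ) - n) ≤ 0 := by
    intro g hg
    have hgT : g ∉ T := (Finset.mem_filter.1 hg).2
    have h1 : 1 ≤ f g := by
      have : ∃ ω : Ω, g • ω = ω := by
        by_contra hcon
        push_neg at hcon
        exact hgT (Finset.mem_filter.2 ⟨Finset.mem_univ _, hcon⟩)
      obtain ⟨ω, hω⟩ := this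
      exact Finset.card_pos.2 ⟨ω, Finset.mem_filter.2 ⟨Finset.mem_univ _, hω⟩⟩
    have h2 : (1 : ℤ) ≤ f g := by exact_mod_cast h1
    have h3 : (f g : ℤ) ≤ n := by exact_mod_cast hfle g
    nlinarith
  have hzero : ∑ g ∈ Finset.univ.filter (fun g => g ∉ T), ((f g : ℤ) - 1) * ((f g : ℤ) - n) = 0 := by
    have h1 : ((n * T.card : ℕ) : ℤ) ≤ ((∑ g : G, f g * (f g - 1) : ℕ) : ℤ) := by exact_mod_cast hupper
    rw [hid, hsplit] at h1
    push_cast at h1
    have h2 := Finset.sum_nonpos hterm
    linarith
  intro g hg a b ha hb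
  by_contra hab
  have hgT : g ∉ T := by
    intro h
    exact (Finset.mem_filter.1 h).2 a ha
  have h1 := (Finset.sum_eq_zero_iff_of_nonpos hterm).1 hzero g (Finset.mem_filter.2 ⟨Finset.mem_univ _, hgT⟩)
  -- f g is at least two
  have h2 : 2 ≤ f g := by
    simp only [hf]
    have : ({a, b} : Finset Ω) ⊆ Finset.univ.filter fun ω : Ω => g • ω = ω := by
      intro x hx
      rw [Finset.mem_insert, Finset.mem_singleton] at hx
      rcases hx with rfl | rfl
      · exact Finset.mem_filter.2 ⟨Finset.mem_univ _, ha⟩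
      · exact Finset.mem_filter.2 ⟨Finset.mem_univ _, hb⟩
    have h3 := Finset.card_le_card this
    rwa [Finset.card_pair hab] at h3
  have h3 : f g = n := by
    rcases mul_eq_zero.1 h1 with h4 | h4
    · have : (f g : ℤ) = 1 := by linarith
      have : f g = 1 := by exact_mod_cast this
      omega
    · have : (f g : ℤ) = n := by linarith
      exact_mod_cast this
  apply hg
  apply FaithfulSMul.eq_of_smul_eq_smul (α := Ω)
  intro x
  rw [one_smul]
  have h4 : (Finset.univ.filter fun ω : Ω => g • ω = ω) = Finset.univ := by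
    apply Finset.eq_univ_of_card
    exact h3
  have h5 : x ∈ Finset.univ.filter fun ω : Ω => g • ω = ω := by
    rw [h4]
    exact Finset.mem_univ _
  exact (Finset.mem_filter.1 h5).2

end CfsgLib.Rec
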