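import Cfsg.Agent.Lib.Rec.Derange2
import Cfsg.Prelude.Def_Solvable

/-! # Derangements all of which are involutions -/

set_option autoImplicit false
set_option linter.unusedVariables false
set_option linter.unusedSectionVars false

namespace CfsgLib.Rec

open scoped Pointwise
open Cfsg

theorem s3555 {G Ω : Type*} [Group G] [Finite G] [MulAction G Ω] [FaithfulSMul G Ω] [Finite Ω]
    (htrans : MulAction.IsPretransitive G Ω) (hinv : ∀ g : G, (∀ ω : Ω, g • ω ≠ ω) → orderOf g = 2) :
    (IsMulCommutative G ∧ ∀ g : G, g ^ 2 = 1) ∨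
    (∃ H : Subgroup G, Cfsg.IsFrobeniusComplement H ∧
      (∀ x ∈ Cfsg.frobeniusKernel H, x ^ 2 = 1) ∧
      ∀ x ∈ Cfsg.frobeniusKernel H, ∀ y ∈ Cfsg.frobeniusKernel H, x * y = y * x) := by
  classical
  letI : Fintype G := Fintype.ofFinite G
  by_cases hne : Nonempty Ω
  swap
  · exfalso
    have h1 := hinv 1 (fun ω => absurd ⟨ω⟩ hne)
    rw [orderOf_one] at h1
    omega
  haveI := hne
  obtain ⟨ω⟩ := hne
  have hfp := CfsgLib.Rec.s3555_aux htrans hinv
  have hsq : ∀ g : G, (∀ α : Ω, g • α ≠ α) → g * g = 1 := by
    intro g hg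
    have h1 := hinv g hg
    have h2 := pow_orderOf_eq_one g
    rw [h1, pow_two] at h2
    exact h2
  have hconjfix : ∀ x : G, ∀ α : Ω, x • α = α → ∃ g : G, α = g • ω ∧ x ∈ MulAut.conj g • MulAction.stabilizer G ω := by
    intro x α hx
    obtain ⟨g, hg⟩ := htrans.exists_smul_eq ω α
    refine ⟨g, hg.symm, ?_⟩
    rw [Subgroup.mem_pointwise_smul_iff_inv_smul_mem]
    rw [MulAction.mem_stabilizer_iff]
    have : (MulAut.conj g)⁻¹ • x = g⁻¹ * x * g := by
      simp [MulAut.smul_def, MulAut.conj_symm_apply]
    rw [this, mul_smul, mul_smul, hg, hx, inv_smul_eq_iff, hg]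
  by_cases hHbot : MulAction.stabilizer G ω = ⊥
  · left
    have hall : ∀ g : G, g * g = 1 := by
      intro g
      by_cases hg : ∀ α : Ω, g • α ≠ α
      · exact hsq g hg
      · push_neg at hg
        obtain ⟨α, hα⟩ := hg
        obtain ⟨x, hx⟩ := htrans.exists_smul_eq ω α
        have h1 : x⁻¹ * g * x ∈ MulAction.stabilizer G ω := by
          rw [MulAction.mem_stabilizer_iff, mul_smul, mul_smul, hx, hα, inv_smul_eq_iff, hx]
        rw [hHbot, Subgroup.mem_bot] at h1
        have h2 : g = 1 := by
          have h3 := congrArg (fun y => x * y * x⁻¹) h1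
          simpa [mul_assoc] using h3
        rw [h2, one_mul]
    refine ⟨⟨⟨fun a b => ?_⟩⟩, fun g => by rw [pow_two]; exact hall g⟩
    have h1 := hall (a * b)
    have h2 := hall a
    have h3 := hall b
    calc a * b = a * (a * b * (a * b)) * b := by rw [h1]; simp
      _ = (a * a) * b * (a * b) * b := by group
      _ = b * a * (b * b) := by rw [h2]; simp [mul_assoc]
      _ = b * a := by rw [h3, mul_one]
  · right
    refine ⟨MulAction.stabilizer G ω, ⟨hHbot, ?_, ?_⟩, ?_, ?_⟩
    · intro htop
      apply hHbot
      rw [eq_bot_iff]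
      intro g _
      rw [Subgroup.mem_bot]
      apply FaithfulSMul.eq_of_smul_eq_smul (α := Ω)
      intro α
      obtain ⟨x, hx⟩ := htrans.exists_smul_eq ω α
      rw [one_smul, ← hx, ← mul_smul]
      have h1 : g * x ∈ MulAction.stabilizer G ω := by rw [htop]; trivial
      have h2 : x ∈ MulAction.stabilizer G ω := by rw [htop]; trivial
      rw [MulAction.mem_stabilizer_iff] at h1 h2
      rw [h1, h2]
    · intro g hg
      rw [eq_bot_iff]
      rintro x ⟨hx1, hx2⟩
      rw [Subgroup.mem_bot]
      by_contra hx
      replace hx2 : x ∈ MulAut.conj g • MulAction.stabilizer G ω := hx2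
      rw [Subgroup.mem_pointwise_smul_iff_inv_smul_mem, MulAction.mem_stabilizer_iff] at hx2
      replace hx1 : x • ω = ω := hx1
      have h3 : (MulAut.conj g)⁻¹ • x = g⁻¹ * x * g := by
        simp [MulAut.smul_def, MulAut.conj_symm_apply]
      rw [h3, mul_smul, mul_smul, inv_smul_eq_iff] at hx2
      have h4 := hfp x hx _ _ hx1 hx2
      apply hg
      rw [MulAction.mem_stabilizer_iff]
      exact h4.symm
    · have hK : ∀ x ∈ Cfsg.frobeniusKernel (MulAction.stabilizer G ω), x ≠ 1 → ∀ α : Ω, x • α ≠ α := by
        rintro x (h | h) hx1 α hα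
        · exact hx1 h
        · obtain ⟨g, _, hg⟩ := hconjfix x α hα
          exact h g hg
      intro x hx
      by_cases hx1 : x = 1
      · rw [hx1]
        simp
      · rw [pow_two]
        exact hsq x (hK x hx hx1)
    · have hK : ∀ x ∈ Cfsg.frobeniusKernel (MulAction.stabilizer G ω), x ≠ 1 → ∀ α : Ω, x • α ≠ α := by
        rintro x (h | h) hx1 α hα
        · exact hx1 h
        · obtain ⟨g, _, hg⟩ := hconjfix x α hα
          exact h g hg
      intro x hx y hy
      by_cases hx1 : x = 1
      · rw [hx1]
        simp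
      by_cases hy1 : y = 1
      · rw [hy1]
        simp
      by_cases hxy : x = y
      · rw [hxy]
      have hxd := hK x hx hx1
      have hyd := hK y hy hy1
      have hxx := hsq x hxd
      have hyy := hsq y hyd
      have hxinv : x⁻¹ = x := inv_eq_of_mul_eq_one_left hxx
      have hyinv : y⁻¹ = y := inv_eq_of_mul_eq_one_left hyy
      have hne1 : x * y ≠ 1 := by
        intro h
        apply hxy
        have h2 := eq_inv_of_mul_eq_one_left h
        rw [hyinv] at h2
        exact h2
      have hder : ∀ α : Ω, (x * y) • α ≠ α := by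
        intro α hα
        have h1 : y • α = x • α := by
          rw [mul_smul] at hα
          have h2 := (smul_eq_iff_eq_inv_smul x).1 hα
          rwa [hxinv] at h2
        have h5 : (x⁻¹ * y) • α = α := by
          rw [mul_smul, h1, inv_smul_smul]
        have h6 : (x⁻¹ * y) • (x • α) = x • α := by
          rw [hxinv, mul_smul]
          have h7 : y • x • α = α := by
            rw [← h1, ← mul_smul, hyy, one_smul]
          rw [h7]
        have h8 : x⁻¹ * y ≠ 1 := by
          intro h
          apply hxy
          have := congrArg (x * ·) h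
          simp at this
          exact this.symm
        exact hxd α (hfp _ h8 _ _ h6 h5)
      have h9 := hsq _ hder
      calc x * y = x * y * (y * x * (y * x)) := by
            have h10 : y * x * (y * x) = 1 := by
              have h11 : (x * y)⁻¹ = x * y := inv_eq_of_mul_eq_one_left h9
              have h12 : (x * y)⁻¹ = y⁻¹ * x⁻¹ := mul_inv_rev x y
              rw [hxinv, hyinv] at h12
              rw [h12] at h11
              rw [h11]
              exact h9
            rw [h10, mul_one]
        _ = x * (y * y) * x * (y * x) := by group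
        _ = y * x := by rw [hyy, mul_one, hxx, one_mul]


end CfsgLib.Rec
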