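import Mathlib

set_option autoImplicit false
open scoped Pointwise

namespace CfsgLib.Rec

theorem s3619 {G Ω : Type*} [Group G] [Finite G] [MulAction G Ω] [FaithfulSMul G Ω] [Finite Ω]
    (hqp : ∀ N : Subgroup G, N.Normal → N ≠ ⊥ → MulAction.IsPretransitive ↥N Ω)
    (Γ : Set Ω) (hΓ1 : 1 < Γ.ncard) (hΓ2 : Γ.ncard < Nat.card Ω)
    (hJ : MulAction.IsPretransitive ↥(fixingSubgroup G Γᶜ) ↥(SubMulAction.ofFixingSubgroup G Γᶜ))
    (hJp : MulAction.IsPreprimitive ↥(fixingSubgroup G Γᶜ) ↥(SubMulAction.ofFixingSubgroup G Γᶜ)) :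
    MulAction.IsMultiplyPretransitive G Ω (Nat.card Ω - Γ.ncard + 1) := by
  classical
  have hΔ : (Γᶜ).ncard + Γ.ncard = Nat.card Ω := by
    rw [add_comm]
    exact Set.ncard_add_ncard_compl Γ
  set Δ : Set Ω := Γᶜ with hΔd
  set H := fixingSubgroup G Δ with hH
  have hmemH : ∀ h : H, ∀ z ∈ Δ, (h : G) • z = z := by
    intro h z hz
    exact (mem_fixingSubgroup_iff G).1 h.2 z hz
  -- H is nontrivial
  obtain ⟨x, y, hx, hy, hxy⟩ := (Set.one_lt_ncard_iff Γ.toFinite).1 hΓ1
  have hxY : x ∈ SubMulAction.ofFixingSubgroup G Δ := by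
    rw [SubMulAction.mem_ofFixingSubgroup_iff]
    simpa [hΔd] using hx
  have hyY : y ∈ SubMulAction.ofFixingSubgroup G Δ := by
    rw [SubMulAction.mem_ofFixingSubgroup_iff]
    simpa [hΔd] using hy
  obtain ⟨h₀, hh₀⟩ := hJ.exists_smul_eq ⟨x, hxY⟩ ⟨y, hyY⟩
  have hh₀' : (h₀ : G) • x = y := congrArg Subtype.val hh₀
  have hh₀1 : (h₀ : G) ≠ 1 := by
    intro h
    rw [h, one_smul] at hh₀'
    exact hxy hh₀'
  have hGtrans : MulAction.IsPretransitive G Ω := by
    have h1 : (⊤ : Subgroup G) ≠ ⊥ := by
      intro h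
      have : (h₀ : G) ∈ (⊤ : Subgroup G) := trivial
      rw [h, Subgroup.mem_bot] at this
      exact hh₀1 this
    have h2 := hqp ⊤ inferInstance h1
    constructor
    intro a b
    obtain ⟨g, hg⟩ := h2.exists_smul_eq a b
    exact ⟨g, hg⟩
  haveI := hGtrans
  have hprim : MulAction.IsPreprimitive G Ω := by
    refine { toIsPretransitive := hGtrans, isTrivialBlock_of_isBlock := ?_ }
    intro B hB
    by_contra hnt
    have hBs : ¬ B.Subsingleton := fun h => hnt (Or.inl h)
    have hBu : B ≠ Set.univ := fun h => hnt (Or.inr h)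
    -- the kernel on the blocks
    let K : Subgroup G :=
      { carrier := {g | ∀ c : G, g • (c • B) = c • B}
        mul_mem' := by
          intro a b ha hb c
          rw [mul_smul, hb c, ha c]
        one_mem' := by
          intro c
          rw [one_smul]
        inv_mem' := by
          intro a ha c
          rw [inv_smul_eq_iff, ha c] }
    have hKn : K.Normal := by
      constructor
      intro a ha g c
      show (g * a * g⁻¹) • c • B = c • B
      rw [mul_smul, mul_smul, ← mul_smul g⁻¹ c, ha (g⁻¹ * c), mul_smul, smul_inv_smul]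
    have hKbot : K = ⊥ := by
      by_contra hne
      have hKt := hqp K hKn hne
      apply hBu
      obtain ⟨b₀, hb₀⟩ : B.Nonempty := by
        by_contra h
        rw [Set.not_nonempty_iff_eq_empty] at h
        rw [h] at hBs
        exact hBs Set.subsingleton_empty
      rw [Set.eq_univ_iff_forall]
      intro w
      obtain ⟨k, hk⟩ := hKt.exists_smul_eq b₀ w
      have h1 : (k : G) • ((1 : G) • B) = (1 : G) • B := k.2 1
      rw [one_smul] at h1
      have h2 : (k : G) • b₀ ∈ (k : G) • B := Set.smul_mem_smul_set hb₀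
      rw [h1] at h2
      have h3 : (k : G) • b₀ = w := hk
      rwa [h3] at h2
    -- H cannot lie in the kernel
    have hHK : ¬ (∀ h : H, (h : G) ∈ K) := by
      intro h
      have := h h₀
      rw [hKbot, Subgroup.mem_bot] at this
      exact hh₀1 this
    push_neg at hHK
    obtain ⟨h₁, hh₁⟩ := hHK
    have hh₁' : ¬ ∀ c : G, (h₁ : G) • (c • B) = c • B := hh₁
    push_neg at hh₁'
    obtain ⟨c, hc⟩ := hh₁'
    -- the translate lies in Γ
    have hcB : (c • B).Nonempty := by
      obtain ⟨b₀, hb₀⟩ : B.Nonempty := by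
        by_contra h
        rw [Set.not_nonempty_iff_eq_empty] at h
        rw [h] at hBs
        exact hBs Set.subsingleton_empty
      exact ⟨c • b₀, Set.smul_mem_smul_set hb₀⟩
    have hblock : MulAction.IsBlock G (c • B) := hB.translate c
    have hsub : c • B ⊆ Γ := by
      intro z hz
      by_contra hzΓ
      have hzΔ : z ∈ Δ := hzΓ
      apply hc
      apply hblock.smul_eq_of_mem hz
      rw [hmemH h₁ z hzΔ]
      exact hz
    -- a block for H
    have hblockH : MulAction.IsBlock H (c • B) := hblock.subgroup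
    have hblockY := MulAction.IsBlock.subtype_val_preimage (C := SubMulAction.ofFixingSubgroup G Δ) hblockH
    rcases hJp.isTrivialBlock_of_isBlock hblockY with h1 | h1
    · apply hBs
      intro a ha b hb
      have ha' : c • a ∈ c • B := Set.smul_mem_smul_set ha
      have hb' : c • b ∈ c • B := Set.smul_mem_smul_set hb
      have h2 : c • a ∈ SubMulAction.ofFixingSubgroup G Δ := by
        rw [SubMulAction.mem_ofFixingSubgroup_iff]
        simpa [hΔd] using hsub ha'
      have h3 : c • b ∈ SubMulAction.ofFixingSubgroup G Δ := by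
        rw [SubMulAction.mem_ofFixingSubgroup_iff]
        simpa [hΔd] using hsub hb'
      have h4 := h1 (x := ⟨c • a, h2⟩) ha' (y := ⟨c • b, h3⟩) hb'
      have h5 : c • a = c • b := congrArg Subtype.val h4
      exact MulAction.injective c h5
    · apply hc
      have h2 : c • B = Γ := by
        apply Set.Subset.antisymm hsub
        intro z hz
        have h3 : z ∈ SubMulAction.ofFixingSubgroup G Δ := by
          rw [SubMulAction.mem_ofFixingSubgroup_iff]
          simpa [hΔd] using hz
        have h4 : (⟨z, h3⟩ : SubMulAction.ofFixingSubgroup G Δ) ∈ (Subtype.val ⁻¹' (c • B)) := by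
          rw [h1]
          trivial
        exact h4
      obtain ⟨b₀, hb₀⟩ := hcB
      apply hblock.smul_eq_of_mem hb₀
      have h3 := hJp
      have hb₀Y : b₀ ∈ SubMulAction.ofFixingSubgroup G Δ := by
        rw [SubMulAction.mem_ofFixingSubgroup_iff]
        simpa [hΔd] using hsub hb₀
      have h4 : h₁ • (⟨b₀, hb₀Y⟩ : SubMulAction.ofFixingSubgroup G Δ) ∈ (Subtype.val ⁻¹' (c • B)) := by
        rw [h1]
        trivial
      exact h4
  have hΔpos : 0 < Δ.ncard := by omega
  obtain ⟨n, hn⟩ : ∃ n, Δ.ncard = n + 1 := ⟨Δ.ncard - 1, by omega⟩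
  have hN : Nat.card Ω - Γ.ncard + 1 = n + 2 := by omega
  rw [hN]
  have h1 := hprim.isMultiplyPreprimitive hn (by omega) hJp
  exact h1.isMultiplyPretransitive


end CfsgLib.Rec
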