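import Mathlib
import Cfsg.Prelude.Def_DegreeGraph
import Cfsg.Agent.Lib.Char.ItoMichler2
import Cfsg.Agent.Lib.H9.PermChar2
import Cfsg.Agent.Lib.Invol.BrauerFowler
import Cfsg.Agent.S0494

/-! Groups of order 60 without normal subgroup of order 5 are simple. -/

set_option autoImplicit false
set_option linter.unusedVariables false
set_option linter.style.haveILetI false

namespace CfsgLib.Rec

open Cfsg CfsgLib.Char
open scoped Pointwise

universe u

theorem card_sylow5 {K : Type*} [Group K] [Finite K] [Fact (Nat.Prime 5)] (m : ℕ) (hK : Nat.card K = 5 * m)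
    (hm : ¬ 5 ∣ m) (P : Sylow 5 K) : Nat.card (P : Subgroup K) = 5 := by
  obtain ⟨j, hj⟩ := IsPGroup.iff_card.1 P.isPGroup'
  have h1 : 5 ^ 1 ∣ Nat.card P := P.pow_dvd_card_of_pow_dvd_card (by rw [pow_one, hK]; exact dvd_mul_right _ _)
  have hj' : Nat.card (P : Subgroup K) = 5 ^ j := hj
  have hd : Nat.card (P : Subgroup K) ∣ Nat.card K := Subgroup.card_subgroup_dvd_card _
  rw [hj', hK] at hd
  rcases j with _ | _ | j
  · change 5 ^ 1 ∣ Nat.card (P : Subgroup K) at h1
    rw [hj'] at h1
    omega
  · rw [hj']; norm_num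
  · exfalso
    apply hm
    have : 5 * 5 ∣ 5 * m := by
      refine dvd_trans ?_ hd
      exact ⟨5 ^ j, by ring⟩
    exact Nat.dvd_of_mul_dvd_mul_left (by norm_num) this

theorem map_char_normal {G : Type*} [Group G] (K : Subgroup G) [K.Normal] (Q : Subgroup K)
    [hQ : Q.Characteristic] : (Q.map K.subtype).Normal := by
  constructor
  rintro _ ⟨x, hx, rfl⟩ g
  let φ : K ≃* K := MulAut.conjNormal g
  have h1 : φ x ∈ Q := by
    have h2 : x ∈ Q.comap φ.toMonoidHom := by
      rw [hQ.fixed φ]
      exact hx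
    exact h2
  refine ⟨φ x, h1, ?_⟩
  show ((φ x : K) : G) = g * x * g⁻¹
  exact MulAut.conjNormal_apply g x

/-- Sylow 5-subgroups of small groups are normal. -/
theorem small_char {K : Type*} [Group K] [Finite K] (m : ℕ) (hK : Nat.card K = 5 * m) (hm1 : 1 ≤ m)
    (hm : m ≤ 4) : ∃ Q : Subgroup K, Q.Characteristic ∧ Nat.card Q = 5 := by
  haveI : Fact (Nat.Prime 5) := ⟨by norm_num⟩
  obtain ⟨P⟩ : Nonempty (Sylow 5 K) := inferInstance
  have hc := card_sylow5 m hK (by omega) P
  have h1 : Nat.card (Sylow 5 K) ≡ 1 [MOD 5] := card_sylow_modEq_one 5 K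
  have h2 : Nat.card (Sylow 5 K) ∣ (P : Subgroup K).index := P.card_dvd_index
  have h3 : Nat.card (P : Subgroup K) * (P : Subgroup K).index = Nat.card K :=
    Subgroup.card_mul_index _
  have h4 : (P : Subgroup K).index = m := by
    rw [hc, hK] at h3
    exact Nat.eq_of_mul_eq_mul_left (by norm_num) h3
  rw [h4] at h2
  have h5 : Nat.card (Sylow 5 K) ≤ m := Nat.le_of_dvd (by omega) h2
  have h6 : Nat.card (Sylow 5 K) % 5 = 1 := h1
  have h7 : Nat.card (Sylow 5 K) = 1 := by omega
  haveI : Subsingleton (Sylow 5 K) := (Nat.card_eq_one_iff_unique.1 h7).1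
  exact ⟨P, Sylow.characteristic_of_normal P (Sylow.normal_of_subsingleton P), hc⟩

theorem thirty_char {K : Type*} [Group K] [Finite K] (hK : Nat.card K = 30) :
    ∃ Q : Subgroup K, Q.Characteristic ∧ Nat.card Q = 5 := by
  haveI : Fact (Nat.Prime 5) := ⟨by norm_num⟩
  obtain ⟨M, hM⟩ := CfsgLib.Invol.exists_index_two_of_two_mul_odd (G := K) (m := 15) (by rw [hK]) (by decide)
  haveI hMn : M.Normal := Subgroup.normal_of_index_eq_two hM
  have hMc : Nat.card M = 15 := by
    have := Subgroup.card_mul_index M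
    rw [hM, hK] at this
    omega
  obtain ⟨Q₀, hQ₀, hQ₀c⟩ := small_char (K := M) 3 (by rw [hMc]) (by norm_num) (by norm_num)
  haveI := hQ₀
  have hQn := map_char_normal M Q₀
  have hQc : Nat.card (Q₀.map M.subtype) = 5 := by
    rw [Subgroup.card_map_of_injective M.subtype_injective, hQ₀c]
  have hQp : IsPGroup 5 (Q₀.map M.subtype) := by
    apply IsPGroup.of_card (n := 1)
    rw [hQc]; norm_num
  obtain ⟨P, hP⟩ := hQp.exists_le_sylow
  have hPc := card_sylow5 (K := K) 6 (by rw [hK]) (by norm_num) P
  have hEq : Q₀.map M.subtype = P := by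
    apply Subgroup.eq_of_le_of_card_ge hP
    rw [hPc, hQc]
  rw [hEq] at hQn
  exact ⟨P, Sylow.characteristic_of_normal P hQn, hPc⟩

theorem exists_char5 {K : Type*} [Group K] [Finite K] (h : Nat.card K = 5 ∨ Nat.card K = 10 ∨
    Nat.card K = 15 ∨ Nat.card K = 20 ∨ Nat.card K = 30) :
    ∃ Q : Subgroup K, Q.Characteristic ∧ Nat.card Q = 5 := by
  rcases h with h | h | h | h | h
  · exact small_char 1 (by rw [h]) (by norm_num) (by norm_num)
  · exact small_char 2 (by rw [h]) (by norm_num) (by norm_num)
  · exact small_char 3 (by rw [h]) (by norm_num) (by norm_num)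
  · exact small_char 4 (by rw [h]) (by norm_num) (by norm_num)
  · exact thirty_char h

variable {G : Type*} [Group G] [Finite G]

theorem normal_of_normal {K : Subgroup G} [K.Normal] (h : Nat.card K = 5 ∨ Nat.card K = 10 ∨
    Nat.card K = 15 ∨ Nat.card K = 20 ∨ Nat.card K = 30) :
    ∃ Q : Subgroup G, Q.Normal ∧ Nat.card Q = 5 := by
  obtain ⟨Q, hQ, hc⟩ := exists_char5 h
  haveI := hQ
  refine ⟨Q.map K.subtype, map_char_normal K Q, ?_⟩
  rw [Subgroup.card_map_of_injective K.subtype_injective, hc]

/-- conjugation of an element of order dividing five on a group of order 3 is trivial -/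
theorem centralize_three {T : Subgroup G} (hT : Nat.card T = 3) {p : G} (hp : p ^ 5 = 1)
    (hn : ∀ t ∈ T, p * t * p⁻¹ ∈ T) (t : G) (ht : t ∈ T) : p * t = t * p := by
  classical
  by_cases ht1 : t = 1
  · rw [ht1, mul_one, one_mul]
  haveI : Fact (Nat.Prime (Nat.card T)) := ⟨by rw [hT]; norm_num⟩
  have htT : (⟨t, ht⟩ : T) ≠ 1 := by
    intro h
    exact ht1 (congrArg Subtype.val h)
  have hz : Subgroup.zpowers (⟨t, ht⟩ : T) = ⊤ := zpowers_eq_top_of_prime_card rfl htT
  have hx := hn t ht
  have hx' : (⟨p * t * p⁻¹, hx⟩ : T) ∈ Subgroup.zpowers (⟨t, ht⟩ : T) := by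
    rw [hz]; trivial
  have hot : orderOf (⟨t, ht⟩ : T) = 3 := by
    rw [← hT]
    exact orderOf_eq_card_of_forall_mem_zpowers (by
      intro y
      have : y ∈ Subgroup.zpowers (⟨t, ht⟩ : T) := by rw [hz]; trivial
      exact this)
  obtain ⟨k, hk⟩ := Subgroup.mem_zpowers_iff.1 hx'
  have hk2 : (⟨t, ht⟩ : T) ^ (k % 3) = ⟨p * t * p⁻¹, hx⟩ := by
    rw [← hk]
    have := zpow_mod_orderOf (⟨t, ht⟩ : T) k
    rwa [hot] at this
  have hk3 : t ^ (k % 3) = p * t * p⁻¹ := congrArg Subtype.val hk2
  have h0 : 0 ≤ k % 3 := Int.emod_nonneg _ (by norm_num)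
  have h1 : k % 3 < 3 := Int.emod_lt_of_pos _ (by norm_num)
  have hot' : t ^ 3 = 1 := by
    have := pow_orderOf_eq_one (⟨t, ht⟩ : T)
    rw [hot] at this
    exact congrArg Subtype.val this
  have hcases : k % 3 = 0 ∨ k % 3 = 1 ∨ k % 3 = 2 := by omega
  rcases hcases with h | h | h
  · exfalso
    rw [h, zpow_zero] at hk3
    apply ht1
    have : p * t * p⁻¹ * p = 1 * p := by rw [← hk3]
    simpa using this
  · rw [h, zpow_one] at hk3
    exact (mul_inv_eq_iff_eq_mul.1 hk3.symm)
  · have hk4 : p * t * p⁻¹ = t * t := by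
      rw [← hk3, h, zpow_two]
    have h2 : p ^ 2 * t * (p ^ 2)⁻¹ = t := by
      have : p ^ 2 * t * (p ^ 2)⁻¹ = p * (p * t * p⁻¹) * p⁻¹ := by
        simp only [pow_two, mul_inv_rev, mul_assoc]
      rw [this, hk4]
      have : p * (t * t) * p⁻¹ = (p * t * p⁻¹) * (p * t * p⁻¹) := by group
      rw [this, hk4]
      have : t * t * (t * t) = t ^ 3 * t := by
        simp only [pow_succ, pow_zero, one_mul, mul_assoc]
      rw [this, hot', one_mul]
    have h3 : Commute (p ^ 2) t := by
      have := mul_inv_eq_iff_eq_mul.1 h2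
      exact this
    have h4 : p = (p ^ 2) ^ 3 := by
      have : (p ^ 2) ^ 3 = p ^ 5 * p := by
        rw [← pow_mul, ← pow_succ]
      rw [this, hp, one_mul]
    have h5 : Commute p t := by
      rw [h4]
      exact h3.pow_left 3
    exact h5

theorem simple_of_60 (hG : Nat.card G = 60) (hno : ∀ Q : Subgroup G, Q.Normal → Nat.card Q ≠ 5) :
    IsSimpleGroup G := by
  classical
  haveI : Fact (Nat.Prime 5) := ⟨by norm_num⟩
  haveI : Fact (Nat.Prime 3) := ⟨by norm_num⟩
  haveI : Nontrivial G := by
    rw [← Finite.one_lt_card_iff_nontrivial]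
    omega
  -- the number of Sylow 5-subgroups
  have hcS : ∀ P : Sylow 5 G, Nat.card (P : Subgroup G) = 5 :=
    fun P => card_sylow5 12 (by rw [hG]) (by norm_num) P
  have hnS : ∀ P : Sylow 5 G, Nat.card (Subgroup.normalizer ((P : Subgroup G) : Set G)) = 10 := by
    intro P
    have h1 : Nat.card (Sylow 5 G) ≡ 1 [MOD 5] := card_sylow_modEq_one 5 G
    have h2 : Nat.card (Sylow 5 G) ∣ (P : Subgroup G).index := P.card_dvd_index
    have h3 : Nat.card (P : Subgroup G) * (P : Subgroup G).index = Nat.card G :=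
      Subgroup.card_mul_index _
    rw [hcS P, hG] at h3
    have h4 : (P : Subgroup G).index = 12 := by omega
    rw [h4] at h2
    have h6 : Nat.card (Sylow 5 G) % 5 = 1 := h1
    have h7 : Nat.card (Sylow 5 G) ≠ 1 := by
      intro h
      haveI : Subsingleton (Sylow 5 G) := (Nat.card_eq_one_iff_unique.1 h).1
      exact hno _ (Sylow.normal_of_subsingleton P) (hcS P)
    have h8 : Nat.card (Sylow 5 G) = 6 := by
      have h9 : Nat.card (Sylow 5 G) ∈ Nat.divisors 12 := by
        rw [Nat.mem_divisors]
        exact ⟨h2, by norm_num⟩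
      have h10 : Nat.divisors 12 = {1, 2, 3, 4, 6, 12} := by decide
      rw [h10] at h9
      simp only [Finset.mem_insert, Finset.mem_singleton] at h9
      omega
    have h11 := P.card_eq_index_normalizer
    rw [h8] at h11
    have h11' : (Subgroup.normalizer ((P : Subgroup G) : Set G)).index = 6 := h11.symm
    have h12 := Subgroup.card_mul_index (Subgroup.normalizer ((P : Subgroup G) : Set G))
    rw [h11', hG] at h12
    omega
  have hKno : ∀ K : Subgroup G, K.Normal → ¬ (Nat.card K = 5 ∨ Nat.card K = 10 ∨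
      Nat.card K = 15 ∨ Nat.card K = 20 ∨ Nat.card K = 30) := by
    intro K hK h
    haveI := hK
    obtain ⟨Q, hQ, hc⟩ := normal_of_normal h
    exact hno Q hQ hc
  refine { exists_pair_ne := exists_pair_ne G, eq_bot_or_eq_top_of_normal := ?_ }
  intro N hN
  haveI := hN
  by_contra hcon
  push Not at hcon
  obtain ⟨hb, ht⟩ := hcon
  have hn1 : Nat.card N ≠ 1 := by
    intro h
    exact hb ((Subgroup.card_eq_one).1 h)
  have hn60 : Nat.card N ≠ 60 := by
    intro h
    apply ht
    apply Subgroup.eq_top_of_card_eq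
    rw [h, hG]
  have hdvd : Nat.card N ∣ 60 := by
    rw [← hG]
    exact Subgroup.card_subgroup_dvd_card N
  have hmem : Nat.card N ∈ Nat.divisors 60 := by
    rw [Nat.mem_divisors]
    exact ⟨hdvd, by norm_num⟩
  have hdiv : Nat.divisors 60 = {1, 2, 3, 4, 5, 6, 10, 12, 15, 20, 30, 60} := by decide
  rw [hdiv] at hmem
  simp only [Finset.mem_insert, Finset.mem_singleton] at hmem
  -- quotient
  have hquot : Nat.card N * Nat.card (G ⧸ N) = 60 := by
    rw [← hG, mul_comm]
    exact (Subgroup.card_eq_card_quotient_mul_card_subgroup N).symm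
  have hqcase : ∀ m : ℕ, Nat.card (G ⧸ N) = 5 * m → (m = 1 ∨ m = 2 ∨ m = 3 ∨ m = 4 ∨ m = 6) →
      ∃ K : Subgroup G, K.Normal ∧ Nat.card K * m = 60 := by
    intro m hm hmc
    obtain ⟨Q, hQ, hc⟩ := exists_char5 (K := G ⧸ N) (by
      rw [hm]
      rcases hmc with h | h | h | h | h <;> rw [h] <;> norm_num)
    haveI := hQ
    refine ⟨Q.comap (QuotientGroup.mk' N), inferInstance, ?_⟩
    have h1 : (Q.comap (QuotientGroup.mk' N)).index = Q.index :=
      Subgroup.index_comap_of_surjective Q (QuotientGroup.mk'_surjective N)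
    have h2 := Subgroup.card_mul_index Q
    rw [hc, hm] at h2
    have h3 : Q.index = m := by
      exact Nat.eq_of_mul_eq_mul_left (by norm_num) h2
    have h4 := Subgroup.card_mul_index (Q.comap (QuotientGroup.mk' N))
    rw [h1, h3, hG] at h4
    exact h4
  have hquotcase : ∀ n m : ℕ, Nat.card N = n → n * (5 * m) = 60 → (m = 1 ∨ m = 2 ∨ m = 3 ∨ m = 4 ∨ m = 6) →
      (n = 2 ∨ n = 3 ∨ n = 4 ∨ n = 6) → False := by
    intro n m hn hm hmc hnc
    have hq : Nat.card (G ⧸ N) = 5 * m := by
      rw [hn] at hquot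
      rw [← hm] at hquot
      exact Nat.eq_of_mul_eq_mul_left (by omega) hquot
    obtain ⟨K, hK, hKc⟩ := hqcase m hq hmc
    apply hKno K hK
    rcases hnc with h | h | h | h
    · subst h
      have : m = 6 := by omega
      subst this
      omega
    · subst h
      have : m = 4 := by omega
      subst this
      omega
    · subst h
      have : m = 3 := by omega
      subst this
      omega
    · subst h
      have : m = 2 := by omega
      subst this
      omega
  rcases hmem with h | h | h | h | h | h | h | h | h | h | h | h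
  · exact hn1 h
  · exact hquotcase 2 6 h (by norm_num) (by norm_num) (by norm_num)
  · exact hquotcase 3 4 h (by norm_num) (by norm_num) (by norm_num)
  · exact hquotcase 4 3 h (by norm_num) (by norm_num) (by norm_num)
  · exact hKno N hN (Or.inl h)
  · exact hquotcase 6 2 h (by norm_num) (by norm_num) (by norm_num)
  · exact hKno N hN (Or.inr (Or.inl h))
  · -- order twelve
    obtain ⟨T⟩ : Nonempty (Sylow 3 N) := inferInstance
    have hTc : Nat.card (T : Subgroup N) = 3 := by
      obtain ⟨j, hj⟩ := IsPGroup.iff_card.1 T.isPGroup'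
      have h1 : 3 ^ 1 ∣ Nat.card T := T.pow_dvd_card_of_pow_dvd_card (by rw [pow_one, h]; norm_num)
      have hj' : Nat.card (T : Subgroup N) = 3 ^ j := hj
      have hd : Nat.card (T : Subgroup N) ∣ Nat.card N := Subgroup.card_subgroup_dvd_card _
      rw [hj', h] at hd
      rcases j with _ | _ | j
      · change 3 ^ 1 ∣ Nat.card (T : Subgroup N) at h1
        rw [hj'] at h1
        omega
      · rw [hj']; norm_num
      · exfalso
        have : 3 ^ (j + 2) ∣ 12 := hd
        have h2 : 9 ∣ 12 := dvd_trans ⟨3 ^ j, by ring⟩ this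
        omega
    let T' : Subgroup G := (T : Subgroup N).map N.subtype
    have hT'c : Nat.card T' = 3 := by
      show Nat.card ((T : Subgroup N).map N.subtype) = 3
      rw [Subgroup.card_map_of_injective N.subtype_injective, hTc]
    have hsup : Subgroup.normalizer (T' : Set G) ⊔ N = ⊤ := Sylow.normalizer_sup_eq_top T
    have hidx : N.index = 5 := by
      have := Subgroup.card_mul_index N
      rw [h, hG] at this
      omega
    have hrel : N.relIndex (Subgroup.normalizer (T' : Set G)) = 5 := by
      have h1 := Subgroup.relIndex_sup_left (K := N) (H := Subgroup.normalizer (T' : Set G))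
      have h2 : N ⊔ Subgroup.normalizer (T' : Set G) = ⊤ := by rw [sup_comm]; exact hsup
      rw [h2, Subgroup.relIndex_top_right, hidx] at h1
      exact h1.symm
    have hdvd5 : 5 ∣ Nat.card (Subgroup.normalizer (T' : Set G)) := by
      rw [← hrel]
      exact Subgroup.relIndex_dvd_card _ _
    obtain ⟨p, hp⟩ := exists_prime_orderOf_dvd_card' 5 hdvd5
    have hpG : orderOf (p : G) = 5 := by
      rw [Subgroup.orderOf_coe]
      exact hp
    have hpT : ∀ t ∈ T', (p : G) * t * (p : G)⁻¹ ∈ T' := by
      intro t ht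
      have := (Subgroup.mem_normalizer_iff.1 p.2 t).1 ht
      exact this
    have hcomm := centralize_three hT'c (p := (p : G)) (by rw [← hpG]; exact pow_orderOf_eq_one _) hpT
    -- the Sylow 5-subgroup
    have hWc : Nat.card (Subgroup.zpowers (p : G)) = 5 := by
      rw [Nat.card_zpowers, hpG]
    have hWp : IsPGroup 5 (Subgroup.zpowers (p : G)) := by
      apply IsPGroup.of_card (n := 1)
      rw [hWc]; norm_num
    obtain ⟨W, hW⟩ := hWp.exists_le_sylow
    have hWeq : Subgroup.zpowers (p : G) = W := by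
      apply Subgroup.eq_of_le_of_card_ge hW
      rw [hcS W, hWc]
    have hTle : T' ≤ Subgroup.normalizer ((W : Subgroup G) : Set G) := by
      intro t ht
      rw [Subgroup.mem_normalizer_iff]
      intro x
      rw [← hWeq]
      have hxz : ∀ y : G, y ∈ (Subgroup.zpowers (p : G)) → t * y * t⁻¹ = y := by
        intro y hy
        obtain ⟨k, rfl⟩ := Subgroup.mem_zpowers_iff.1 hy
        have : Commute t ((p : G) ^ k) := ((show Commute (p : G) t from hcomm t ht).symm).zpow_right k
        rw [this.eq]
        simp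
      constructor
      · intro hx
        rw [hxz x hx]
        exact hx
      · intro hx
        have h3 : t * (t * x * t⁻¹) * t⁻¹ = t * x * t⁻¹ := hxz _ hx
        have h4 : t * x * t⁻¹ = x :=
          (MulAut.conj t).injective (by simpa [MulAut.conj_apply] using h3)
        rw [h4] at hx
        exact hx
    have h3 : 3 ∣ 10 := by
      rw [← hT'c, ← hnS W]
      exact Subgroup.card_dvd_of_le hTle
    omega
  · exact hKno N hN (Or.inr (Or.inr (Or.inl h)))
  · exact hKno N hN (Or.inr (Or.inr (Or.inr (Or.inl h))))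
  · exact hKno N hN (Or.inr (Or.inr (Or.inr (Or.inr h))))
  · exact hn60 h

/-- A group with no normal subgroup of order 5 and six Sylow 5-subgroups of order 5
is doubly transitive on them. -/
theorem two_trans_sylow5 {A : Type*} [Group A] [Finite A] [Fact (Nat.Prime 5)]
    (hc : ∀ P : Sylow 5 A, Nat.card (P : Subgroup A) = 5) (h6 : Nat.card (Sylow 5 A) = 6) :
    MulAction.IsMultiplyPretransitive A (Sylow 5 A) 2 := by
  classical
  -- the other Sylow subgroups are permuted transitively by a given one
  have key : ∀ c x y : Sylow 5 A, x ≠ c → y ≠ c → ∃ h ∈ (c : Subgroup A), h • x = y := by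
    intro c x y hx hy
    have hcp : IsPGroup 5 (c : Subgroup A) := c.isPGroup'
    have hnf : x ∉ MulAction.fixedPoints (c : Subgroup A) (Sylow 5 A) := by
      intro hfix
      have h1 := (hcp.sylow_mem_fixedPoints_iff).1 hfix
      apply hx
      apply Sylow.ext
      refine (Subgroup.eq_of_le_of_card_ge h1 ?_).symm
      rw [hc c, hc x]
    have horb : Nat.card (MulAction.orbit (c : Subgroup A) x) = 5 := by
      have h1 : Nat.card (MulAction.orbit (c : Subgroup A) x) ∣ Nat.card (c : Subgroup A) := by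
        rw [Nat.card_coe_set_eq, ← MulAction.index_stabilizer]
        exact Subgroup.index_dvd_card _
      rw [hc c] at h1
      rcases (Nat.dvd_prime (by norm_num)).1 h1 with h2 | h2
      · exfalso
        apply hnf
        rw [MulAction.mem_fixedPoints]
        intro h
        have hs : Subsingleton (MulAction.orbit (c : Subgroup A) x) :=
          (Nat.card_eq_one_iff_unique.1 h2).1
        have h3 : (⟨h • x, MulAction.mem_orbit x h⟩ : MulAction.orbit (c : Subgroup A) x) =
            ⟨x, MulAction.mem_orbit_self x⟩ := Subsingleton.elim _ _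
        exact congrArg Subtype.val h3
      · exact h2
    have hsub : MulAction.orbit (c : Subgroup A) x ⊆ {z | z ≠ c} := by
      rintro _ ⟨h, rfl⟩ hz
      apply hx
      have hfixc : (h : A) • c = c := by
        have h1 := (hcp.sylow_mem_fixedPoints_iff (Q := c)).2 le_rfl
        exact h1 h
      have hz2 : (h : A) • x = c := hz
      exact MulAction.injective (h : A) (hz2.trans hfixc.symm)
    have hcardc : Nat.card {z : Sylow 5 A // z ≠ c} = 5 := by
      haveI : Fintype (Sylow 5 A) := Fintype.ofFinite _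
      rw [Nat.card_eq_fintype_card, Fintype.card_subtype_compl]
      simp only [Fintype.card_unique, Fintype.card_ofSubsingleton]
      rw [← Nat.card_eq_fintype_card, h6]
    have hsub2 : (MulAction.orbit (c : Subgroup A) x) = {z | z ≠ c} := by
      apply Set.eq_of_subset_of_ncard_le hsub
      · have h1 : ({z | z ≠ c} : Set (Sylow 5 A)).ncard = 5 := by
          rw [← Nat.card_coe_set_eq]
          exact hcardc
        have h2 : (MulAction.orbit (c : Subgroup A) x).ncard = 5 := by
          rw [← Nat.card_coe_set_eq]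
          exact horb
        omega
    have hy' : y ∈ MulAction.orbit (c : Subgroup A) x := by
      rw [hsub2]
      exact hy
    obtain ⟨h, hh⟩ := hy'
    exact ⟨h, h.2, hh⟩
  have htr : MulAction.IsPretransitive A (Sylow 5 A) := inferInstance
  rw [MulAction.isMultiplyPretransitive_iff]
  intro f f'
  obtain ⟨g, hg⟩ := htr.exists_smul_eq (f 0) (f' 0)
  have h1 : g • f 1 ≠ f' 0 := by
    intro h
    rw [← hg] at h
    have := MulAction.injective g h
    exact absurd (f.injective this) (by decide)
  have h2 : f' 1 ≠ f' 0 := fun h => absurd (f'.injective h) (by decide)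
  obtain ⟨h, hh, hh2⟩ := key (f' 0) (g • f 1) (f' 1) h1 h2
  refine ⟨h * g, ?_⟩
  have hfixc : h • f' 0 = f' 0 := by
    have hcp : IsPGroup 5 ((f' 0 : Sylow 5 A) : Subgroup A) := (f' 0).isPGroup'
    have h1' := (hcp.sylow_mem_fixedPoints_iff (Q := f' 0)).2 le_rfl
    exact h1' ⟨h, hh⟩
  apply DFunLike.ext
  intro i
  fin_cases i
  · show (h * g) • f 0 = f' 0
    rw [mul_smul, hg, hfixc]
  · show (h * g) • f 1 = f' 1
    rw [mul_smul, hh2]

theorem five_mem_of_simple {A : Type} [Group A] [Fintype A] [hsim : IsSimpleGroup A]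
    (hA : Nat.card A = 60) : 5 ∈ degreePrimes A := by
  classical
  haveI : Fact (Nat.Prime 5) := ⟨by norm_num⟩
  have hcS : ∀ P : Sylow 5 A, Nat.card (P : Subgroup A) = 5 :=
    fun P => card_sylow5 12 (by rw [hA]) (by norm_num) P
  obtain ⟨P⟩ : Nonempty (Sylow 5 A) := inferInstance
  have h6 : Nat.card (Sylow 5 A) = 6 := by
    have h1 : Nat.card (Sylow 5 A) ≡ 1 [MOD 5] := card_sylow_modEq_one 5 _
    have h2 : Nat.card (Sylow 5 A) ∣ (P : Subgroup A).index := P.card_dvd_index
    have h3 := Subgroup.card_mul_index (P : Subgroup A)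
    rw [hcS P, hA] at h3
    have h4 : (P : Subgroup A).index = 12 := by omega
    rw [h4] at h2
    have h6 : Nat.card (Sylow 5 A) % 5 = 1 := h1
    have h7 : Nat.card (Sylow 5 A) ≠ 1 := by
      intro h
      haveI : Subsingleton (Sylow 5 A) := (Nat.card_eq_one_iff_unique.1 h).1
      have hn := Sylow.normal_of_subsingleton P
      rcases hn.eq_bot_or_eq_top with hb | ht
      · have := hcS P
        rw [hb] at this
        simp at this
      · have := hcS P
        rw [ht, Subgroup.card_top, hA] at this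
        omega
    have h9 : Nat.card (Sylow 5 A) ∈ Nat.divisors 12 := by
      rw [Nat.mem_divisors]
      exact ⟨h2, by norm_num⟩
    have h10 : Nat.divisors 12 = {1, 2, 3, 4, 6, 12} := by decide
    rw [h10] at h9
    simp only [Finset.mem_insert, Finset.mem_singleton] at h9
    omega
  have h2t := two_trans_sylow5 hcS h6
  have hcard2 : 2 ≤ Nat.card (Sylow 5 A) := by rw [h6]; norm_num
  have hirr : IsIrrCharacter A (fun g => (Nat.card (MulAction.fixedBy (Sylow 5 A) g) : ℂ) - 1) :=
    (isIrr_perm_sub_one_iff (Sylow 5 A) hcard2).2 h2t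
  refine ⟨by norm_num, 5, ⟨⟨_, hirr⟩, ?_⟩, dvd_rfl⟩
  apply charDegree_eq
  show ((Nat.card (MulAction.fixedBy (Sylow 5 A) (1 : A)) : ℕ) : ℂ) - 1 = ((5 : ℕ) : ℂ)
  rw [MulAction.fixedBy_one_eq_univ, Nat.card_univ, h6]
  norm_num

theorem five_mem_degreePrimes : 5 ∈ degreePrimes (alternatingGroup (Fin 5)) := by
  classical
  haveI hsim : IsSimpleGroup (alternatingGroup (Fin 5)) :=
    alternatingGroup.isSimpleGroup (by simp)
  apply five_mem_of_simple
  rw [nat_card_alternatingGroup]
  simp [Nat.factorial]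

theorem s3669 {G : Type*} [Group G] [Finite G] (hcard : Nat.card G = 60)
    (hΓ : degreePrimes G = degreePrimes (alternatingGroup (Fin 5))) :
    Nonempty (G ≃* alternatingGroup (Fin 5)) := by
  classical
  letI : Fintype G := Fintype.ofFinite G
  haveI : Fact (Nat.Prime 5) := ⟨by norm_num⟩
  have h5 : (5 : ℕ) ∈ degreePrimes G := by
    rw [hΓ]
    exact five_mem_degreePrimes
  obtain ⟨-, d, ⟨χ, hχ⟩, hd⟩ := h5
  haveI : IsSimpleGroup G := by
    apply simple_of_60 hcard
    intro Q hQ hQc
    haveI := hQ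
    have hp : Fact (Nat.card Q).Prime := ⟨by rw [hQc]; norm_num⟩
    haveI hcyc := isCyclic_of_prime_card (α := Q) rfl
    have hcomm : ∀ a ∈ Q, ∀ b ∈ Q, a * b = b * a := by
      intro a ha b hb
      letI := IsCyclic.commGroup (α := Q)
      have h := mul_comm (⟨a, ha⟩ : Q) ⟨b, hb⟩
      exact congrArg Subtype.val h
    have hidx : ¬ 5 ∣ Q.index := by
      have := Subgroup.card_mul_index Q
      rw [hQc, hcard] at this
      omega
    apply degrees_of_normal_abelian 5 Q hcomm hidx χ
    rw [hχ]
    exact hd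
  exact Cfsg.Agent.S0494.result hcard

end CfsgLib.Rec
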