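import Mathlib
import Cfsg.Agent.Lib.H9.MinNormal

/-! The socle of a finite primitive permutation group. -/

set_option autoImplicit false
set_option linter.unusedVariables false

namespace CfsgLib.Rec

variable {G Ω : Type*} [Group G] [MulAction G Ω] [FaithfulSMul G Ω]

/-- nontrivial normal subgroups of a faithful primitive group are transitive -/
theorem trans_of_normal (hprim : MulAction.IsPreprimitive G Ω) (V : Subgroup G) [V.Normal]
    (hV : V ≠ ⊥) : MulAction.IsPretransitive V Ω := by
  haveI := hprim
  apply MulAction.IsQuasiPreprimitive.isPretransitive_of_normal (G := G) (X := Ω) (N := V)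
  intro h
  apply hV
  rw [Subgroup.eq_bot_iff_forall]
  intro x hx
  apply FaithfulSMul.eq_of_smul_eq_smul (α := Ω)
  intro a
  have h1 : a ∈ MulAction.fixedPoints V Ω := by rw [h]; trivial
  rw [one_smul]
  exact h1 ⟨x, hx⟩

/-- centralizing a transitive subgroup and fixing a point forces triviality -/
theorem eq_one_of_comm (X : Subgroup G) (hX : MulAction.IsPretransitive X Ω) {c : G}
    (hc : ∀ x ∈ X, c * x = x * c) {a : Ω} (ha : c • a = a) : c = 1 := by
  apply FaithfulSMul.eq_of_smul_eq_smul (α := Ω)
  intro b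
  obtain ⟨x, hx⟩ := hX.exists_smul_eq a b
  have hx' : (x : G) • a = b := hx
  rw [one_smul, ← hx', ← mul_smul, hc x x.2, mul_smul, ha]

/-- A minimal normal subgroup. -/
def MinN (V : Subgroup G) : Prop :=
  V.Normal ∧ V ≠ ⊥ ∧ ∀ M : Subgroup G, M.Normal → M ≤ V → M = ⊥ ∨ M = V

theorem minN_disjoint {V W : Subgroup G} (hV : MinN V) (hW : MinN W) (hne : V ≠ W) : Disjoint V W := by
  obtain ⟨hVn, hV1, hVm⟩ := hV
  obtain ⟨hWn, hW1, hWm⟩ := hW
  haveI := hVn
  haveI := hWn
  rw [disjoint_iff]
  rcases hVm (V ⊓ W) inferInstance inf_le_left with h | h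
  · exact h
  · exfalso
    have hle : V ≤ W := inf_eq_left.1 h
    rcases hWm V hVn hle with h2 | h2
    · exact hV1 h2
    · exact hne h2

theorem minN_comm {V W : Subgroup G} (hV : MinN V) (hW : MinN W) (hne : V ≠ W) :
    ∀ v ∈ V, ∀ w ∈ W, v * w = w * v := by
  intro v hv w hw
  exact Subgroup.commute_of_normal_of_disjoint V W hV.1 hW.1 (minN_disjoint hV hW hne) v w hv hw

theorem exists_point {V : Subgroup G} (hV : V ≠ ⊥) : ∃ a : Ω, True := by
  obtain ⟨x, hx⟩ := Subgroup.ne_bot_iff_exists_ne_one.1 hV
  by_contra h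
  push Not at h
  apply hx
  apply Subtype.ext
  apply FaithfulSMul.eq_of_smul_eq_smul (α := Ω)
  intro a
  exact (h a).elim

/-- the centralizer of `V` is contained in `W` for two different minimal normal subgroups -/
theorem centralizer_le (hprim : MulAction.IsPreprimitive G Ω) {V W : Subgroup G}
    (hV : MinN V) (hW : MinN W) (hne : V ≠ W) {c : G} (hc : ∀ v ∈ V, c * v = v * c) : c ∈ W := by
  haveI := hV.1
  haveI := hW.1
  have hVt := trans_of_normal (Ω := Ω) hprim V hV.2.1
  have hWt := trans_of_normal (Ω := Ω) hprim W hW.2.1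
  obtain ⟨a, -⟩ := exists_point (Ω := Ω) hV.2.1
  obtain ⟨w, hw⟩ := hWt.exists_smul_eq a (c • a)
  have hw' : (w : G) • a = c • a := hw
  have h1 : (w : G)⁻¹ * c = 1 := by
    apply eq_one_of_comm V hVt (a := a)
    · intro v hv
      have h2 := minN_comm hV hW hne v hv w w.2
      have h3 : (w : G)⁻¹ * v = v * (w : G)⁻¹ := by
        rw [inv_mul_eq_iff_eq_mul, ← mul_assoc, h2.symm, mul_assoc, mul_inv_cancel, mul_one]
      rw [mul_assoc, hc v hv, ← mul_assoc, h3, mul_assoc]
    · rw [mul_smul, ← hw', ← mul_smul, inv_mul_cancel, one_smul]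
  have h2 : c = w := by
    have := eq_of_inv_mul_eq_one h1
    exact this.symm
  rw [h2]
  exact w.2

/-- Two different minimal normal subgroups of a primitive group are isomorphic. -/
theorem minN_iso (hprim : MulAction.IsPreprimitive G Ω) {V W : Subgroup G}
    (hV : MinN V) (hW : MinN W) (hne : V ≠ W) : Nonempty (V ≃* W) := by
  classical
  haveI := hV.1
  haveI := hW.1
  have hVt := trans_of_normal (Ω := Ω) hprim V hV.2.1
  have hWt := trans_of_normal (Ω := Ω) hprim W hW.2.1
  obtain ⟨a, -⟩ := exists_point (Ω := Ω) hV.2.1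
  have hcomm := minN_comm hV hW hne
  have huniqW : ∀ w w' : W, (w : G) • a = (w' : G) • a → w = w' := by
    intro w w' h
    have h1 : (w' : G)⁻¹ * w = 1 := by
      apply eq_one_of_comm V hVt (a := a)
      · intro v hv
        have h2 := hcomm v hv w w.2
        have h3 := hcomm v hv w' w'.2
        have h4 : (w' : G)⁻¹ * v = v * (w' : G)⁻¹ := by
          rw [inv_mul_eq_iff_eq_mul, ← mul_assoc, h3.symm, mul_assoc, mul_inv_cancel, mul_one]
        rw [mul_assoc, ← h2, ← mul_assoc, h4, mul_assoc]
      · rw [mul_smul, h, ← mul_smul, inv_mul_cancel, one_smul]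
    have h2 := eq_of_inv_mul_eq_one h1
    exact Subtype.ext h2.symm
  have huniqV : ∀ v v' : V, (v : G) • a = (v' : G) • a → v = v' := by
    intro v v' h
    have h1 : (v' : G)⁻¹ * v = 1 := by
      apply eq_one_of_comm W hWt (a := a)
      · intro w hw
        have h2 := hcomm v v.2 w hw
        have h3 := hcomm v' v'.2 w hw
        have h4 : (v' : G)⁻¹ * w = w * (v' : G)⁻¹ := by
          rw [inv_mul_eq_iff_eq_mul, ← mul_assoc, h3, mul_assoc, mul_inv_cancel, mul_one]
        rw [mul_assoc, h2, ← mul_assoc, h4, mul_assoc]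
      · rw [mul_smul, h, ← mul_smul, inv_mul_cancel, one_smul]
    have h2 := eq_of_inv_mul_eq_one h1
    exact Subtype.ext h2.symm
  have hex : ∀ v : V, ∃ w : W, (w : G) • a = (v : G) • a := fun v => hWt.exists_smul_eq a ((v : G) • a)
  choose f hf using hex
  have hfmul : ∀ x y : V, f (x * y) = f y * f x := by
    intro x y
    apply huniqW
    have h1 : ((f y * f x : W) : G) • a = ((f y : W) : G) • ((x : V) : G) • a := by
      rw [Subgroup.coe_mul, mul_smul, hf x]
    have h2 : ((f y : W) : G) • ((x : V) : G) • a = ((x : V) : G) • ((f y : W) : G) • a := by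
      rw [← mul_smul, ← mul_smul, hcomm x x.2 _ (f y).2]
    rw [hf (x * y), h1, h2, hf y, Subgroup.coe_mul, mul_smul]
  let F : V →* W :=
    { toFun := fun v => (f v)⁻¹
      map_one' := by
        have h1 : f 1 = 1 := by
          apply huniqW
          rw [hf]
          rfl
        rw [h1, inv_one]
      map_mul' := by
        intro x y
        rw [hfmul, mul_inv_rev] }
  have hbij : Function.Bijective F := by
    constructor
    · intro x y h
      have h1 : (f x)⁻¹ = (f y)⁻¹ := h
      have h2 : f x = f y := inv_injective h1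
      apply huniqV
      rw [← hf x, ← hf y, h2]
    · intro w
      obtain ⟨v, hv⟩ := hVt.exists_smul_eq a ((w⁻¹ : W) • a)
      refine ⟨v, ?_⟩
      have h1 : f v = w⁻¹ := by
        apply huniqW
        rw [hf]
        exact hv
      show (f v)⁻¹ = w
      rw [h1, inv_inv]
  exact ⟨MulEquiv.ofBijective F hbij⟩

/-- Abelian minimal normal subgroups are elementary. -/
theorem minN_elem {V : Subgroup G} [Finite G] (hV : MinN V) (hab : ∀ a ∈ V, ∀ b ∈ V, a * b = b * a) :
    ∃ p : ℕ, p.Prime ∧ ∀ x ∈ V, x ^ p = 1 := by
  classical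
  haveI := hV.1
  have hcard : Nat.card V ≠ 1 := by
    intro h
    exact hV.2.1 (Subgroup.card_eq_one.1 h)
  obtain ⟨p, hp, hpd⟩ := Nat.exists_prime_and_dvd hcard
  refine ⟨p, hp, ?_⟩
  haveI : Fact p.Prime := ⟨hp⟩
  let U : Subgroup G :=
    { carrier := {x | x ∈ V ∧ x ^ p = 1}
      mul_mem' := by
        rintro a b ⟨ha, ha1⟩ ⟨hb, hb1⟩
        refine ⟨V.mul_mem ha hb, ?_⟩
        have hc : Commute a b := hab a ha b hb
        rw [hc.mul_pow, ha1, hb1, one_mul]
      one_mem' := ⟨V.one_mem, one_pow _⟩
      inv_mem' := by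
        rintro a ⟨ha, ha1⟩
        exact ⟨V.inv_mem ha, by rw [inv_pow, ha1, inv_one]⟩ }
  have hUn : U.Normal := by
    constructor
    rintro a ⟨ha, ha1⟩ g
    refine ⟨hV.1.conj_mem a ha g, ?_⟩
    rw [conj_pow, ha1]
    group
  have hUne : U ≠ ⊥ := by
    obtain ⟨x, hx⟩ := exists_prime_orderOf_dvd_card' p hpd
    intro h
    have hxU : (x : G) ∈ U := by
      refine ⟨x.2, ?_⟩
      have := pow_orderOf_eq_one x
      rw [hx] at this
      exact_mod_cast congrArg Subtype.val this
    rw [h, Subgroup.mem_bot] at hxU
    have h1 : x = 1 := Subtype.ext hxU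
    rw [h1, orderOf_one] at hx
    exact hp.one_lt.ne hx
  rcases hV.2.2 U hUn (fun x hx => hx.1) with h | h
  · exact absurd h hUne
  · intro x hx
    rw [← h] at hx
    exact hx.2

def appEquiv (T : Type) [Group T] (m : ℕ) : ((Fin m → T) × (Fin m → T)) ≃* (Fin (m + m) → T) :=
  let e₁ : ((Fin m → T) × (Fin m → T)) ≃* (Fin m ⊕ Fin m → T) :=
    { toFun := fun p => Sum.elim p.1 p.2
      invFun := fun f => (f ∘ Sum.inl, f ∘ Sum.inr)
      left_inv := fun p => by
        cases p
        rfl
      right_inv := fun f => by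
        funext i
        cases i <;> rfl
      map_mul' := fun p q => by
        funext i
        cases i <;> rfl }
  e₁.trans (MulEquiv.arrowCongr finSumFinEquiv (MulEquiv.refl T))

theorem s3680 [Finite G] [Finite Ω] (hprim : MulAction.IsPreprimitive G Ω) (N : Subgroup G)
    (hN : N = sSup {V : Subgroup G | V.Normal ∧ V ≠ ⊥ ∧ ∀ M : Subgroup G, M.Normal → M ≤ V → M = ⊥ ∨ M = V}) :
    (∃ p : ℕ, p.Prime ∧ IsMulCommutative N ∧ (∀ x : N, x ^ p = 1) ∧
      MulAction.IsPretransitive N Ω ∧ ∀ ω : Ω, MulAction.stabilizer N ω = ⊥) ∨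
    (∃ (T : Type) (_ : Group T) (m : ℕ), 1 ≤ m ∧ IsSimpleGroup T ∧ ¬ IsMulCommutative T ∧ Nonempty (N ≃* (Fin m → T))) := by
  classical
  change N = sSup {V : Subgroup G | MinN V} at hN
  by_cases hne : ∃ V : Subgroup G, MinN V
  · obtain ⟨V, hV⟩ := hne
    haveI := hV.1
    have hVt := trans_of_normal (Ω := Ω) hprim V hV.2.1
    by_cases hab : ∀ a ∈ V, ∀ b ∈ V, a * b = b * a
    · -- abelian case
      left
      have hS : {V' : Subgroup G | MinN V'} = {V} := by
        ext U
        constructor
        · intro hU
          by_contra hUV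
          have hUV' : V ≠ U := fun h => hUV h.symm
          have hle : V ≤ U := fun c hc => centralizer_le (Ω := Ω) hprim hV hU hUV' (fun v hv => hab c hc v hv)
          rcases hU.2.2 V hV.1 hle with h | h
          · exact hV.2.1 h
          · exact hUV' h
        · intro h
          rw [Set.mem_singleton_iff] at h
          rw [h]
          exact hV
      rw [hS, sSup_singleton] at hN
      subst hN
      obtain ⟨p, hp, hpow⟩ := minN_elem hV hab
      refine ⟨p, hp, ⟨⟨fun a b => Subtype.ext (hab a a.2 b b.2)⟩⟩, ?_, hVt, ?_⟩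
      · intro x
        exact Subtype.ext (hpow x x.2)
      · intro ω
        rw [Subgroup.eq_bot_iff_forall]
        intro x hx
        have h1 : (x : G) = 1 := by
          apply eq_one_of_comm N hVt (a := ω)
          · intro y hy
            exact hab x x.2 y hy
          · exact hx
        exact Subtype.ext h1
    · -- non-abelian case
      right
      obtain ⟨T, hTg, m, hTs, hm, ⟨e⟩⟩ := CfsgLib.H9.MinNormal.main V hV.2.1 hV.2.2
      have hTnc : ¬ IsMulCommutative T := by
        intro hT
        apply hab
        intro a ha b hb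
        have h1 : e ⟨a, ha⟩ * e ⟨b, hb⟩ = e ⟨b, hb⟩ * e ⟨a, ha⟩ := by
          funext i
          exact hT.is_comm.comm _ _
        have h2 : e (⟨a, ha⟩ * ⟨b, hb⟩) = e (⟨b, hb⟩ * ⟨a, ha⟩) := by
          rw [map_mul, map_mul, h1]
        have h3 := e.injective h2
        exact congrArg Subtype.val h3
      by_cases hall : ∀ U : Subgroup G, MinN U → U = V
      · have hS : {V' : Subgroup G | MinN V'} = {V} := by
          ext U
          constructor
          · intro hU
            exact hall U hU
          · intro h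
            rw [Set.mem_singleton_iff] at h
            rw [h]
            exact hV
        rw [hS, sSup_singleton] at hN
        subst hN
        exact ⟨T, hTg, m, hm, hTs, hTnc, ⟨e⟩⟩
      · push Not at hall
        obtain ⟨W, hW, hWV⟩ := hall
        have hVW : V ≠ W := fun h => hWV h.symm
        have hS : {V' : Subgroup G | MinN V'} = {V, W} := by
          ext U
          constructor
          · intro hU
            by_cases hUV : U = V
            · left; exact hUV
            · right
              have hVU : U ≠ V := hUV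
              have hle : U ≤ W := fun c hc =>
                centralizer_le (Ω := Ω) hprim hV hW hVW (fun v hv => (minN_comm hU hV hUV c hc v hv))
              rcases hW.2.2 U hU.1 hle with h | h
              · exact absurd h hU.2.1
              · exact h
          · intro h
            rcases h with h | h
            · rw [h]; exact hV
            · rw [Set.mem_singleton_iff] at h
              rw [h]; exact hW
        rw [hS, sSup_pair] at hN
        subst hN
        obtain ⟨eVW⟩ := minN_iso (Ω := Ω) hprim hV hW hVW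
        have hcomm := minN_comm hV hW hVW
        have hc : ∀ (x : V) (y : W), Commute (V.subtype x) (W.subtype y) := fun x y => hcomm x x.2 y y.2
        let φ : V × W →* G := MonoidHom.noncommCoprod V.subtype W.subtype hc
        have hinj : Function.Injective φ := by
          intro p q h
          have h1 : (p.1 : G) * (p.2 : G) = (q.1 : G) * (q.2 : G) := h
          have h2 : (q.1 : G)⁻¹ * (p.1 : G) = (q.2 : G) * (p.2 : G)⁻¹ := by
            rw [inv_mul_eq_iff_eq_mul, ← mul_assoc, ← h1, mul_assoc, mul_inv_cancel, mul_one]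
          have hd := minN_disjoint hV hW hVW
          have h3 : (q.1 : G)⁻¹ * (p.1 : G) ∈ V ⊓ W := by
            refine ⟨V.mul_mem (V.inv_mem q.1.2) p.1.2, ?_⟩
            rw [h2]
            exact W.mul_mem q.2.2 (W.inv_mem p.2.2)
          rw [disjoint_iff.1 hd, Subgroup.mem_bot] at h3
          have h4 : (p.1 : G) = q.1 := (eq_of_inv_mul_eq_one h3).symm
          have h5 : (p.2 : G) = q.2 := by
            rw [h4] at h1
            exact mul_left_cancel h1
          exact Prod.ext (Subtype.ext h4) (Subtype.ext h5)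
        have hrange : φ.range = V ⊔ W := by
          have := MonoidHom.noncommCoprod_range V.subtype W.subtype hc
          rw [Subgroup.range_subtype, Subgroup.range_subtype] at this
          exact this
        let e₁ : (V × W) ≃* (V ⊔ W : Subgroup G) :=
          (MonoidHom.ofInjective hinj).trans (MulEquiv.subgroupCongr hrange)
        let e₂ : (V ⊔ W : Subgroup G) ≃* (Fin (m + m) → T) :=
          e₁.symm.trans ((MulEquiv.prodCongr (MulEquiv.refl V) eVW.symm).trans
            ((MulEquiv.prodCongr e e).trans (appEquiv T m)))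
        exact ⟨T, hTg, m + m, by omega, hTs, hTnc, ⟨e₂⟩⟩
  · -- trivial group
    left
    have hbot : (⊤ : Subgroup G) = ⊥ := by
      by_contra hT
      have hfin : ({M : Subgroup G | M.Normal ∧ M ≠ ⊥}).Finite := Set.toFinite _
      obtain ⟨M, hM⟩ := hfin.exists_minimal ⟨⊤, inferInstance, hT⟩
      apply hne
      refine ⟨M, hM.1.1, hM.1.2, ?_⟩
      intro K hK hKM
      by_cases hK1 : K = ⊥
      · left; exact hK1
      · right
        exact le_antisymm hKM (hM.2 ⟨hK, hK1⟩ hKM)
    have hall : ∀ g : G, g = 1 := by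
      intro g
      have : g ∈ (⊤ : Subgroup G) := trivial
      rw [hbot, Subgroup.mem_bot] at this
      exact this
    have hS : {V' : Subgroup G | MinN V'} = ∅ := by
      ext U
      simp only [Set.mem_setOf_eq, Set.mem_empty_iff_false, iff_false]
      exact fun h => hne ⟨U, h⟩
    rw [hS, sSup_empty] at hN
    subst hN
    refine ⟨2, Nat.prime_two, ⟨⟨fun a b => Subsingleton.elim _ _⟩⟩, ?_, ?_, ?_⟩
    · intro x
      exact Subtype.ext (by
        have := hall (x : G)
        simp [this])
    · refine ⟨fun a b => ?_⟩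
      obtain ⟨g, hg⟩ := hprim.toIsPretransitive.exists_smul_eq a b
      refine ⟨1, ?_⟩
      rw [hall g, one_smul] at hg
      rw [one_smul]
      exact hg
    · intro ω
      rw [Subgroup.eq_bot_iff_forall]
      intro x hx
      exact Subtype.ext (hall (x : G))

end CfsgLib.Rec
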